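import Cfsg.Agent.Omega.FSix.OneField
import Cfsg.Agent.Omega.BTwo.Cz

/-!
# THEOREM TIR (`#13229` of helper522), (1), (4) and the interface

`W = W i = O₂(N(R i))`, `C(W) = R i`; `O z := O₂(C(z)) ≤ W` for `1 ≠ z ∈ R i` (`O_le_W`, on helper450's `Cz`),
`A z := C_W(O z)`: `A z ∩ V ≤ R i`, `A z ∩ D ≤ R i`, every conjugate of `R i` containing `z` is in `A z`.
-/

set_option autoImplicit false
set_option linter.unusedSectionVars false

namespace Cfsg.Agent.Omega.FSix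

open Subgroup Cfsg.Agent.Omega.BTwo

universe u v w

variable {G : Type u} [Group G] {ι : Type w} {V : Subgroup G} {R : ι → Subgroup G} {i j : ι}
  {F : Type v} [Field F] {v : F → F → G} {w1 w2 : F → G}

theorem mem_cen_one {x z : G} : x ∈ centralizer {z} ↔ z * x = x * z := by
  rw [mem_centralizer_iff]
  exact ⟨fun h => h z rfl, fun h y hy => by rw [Set.mem_singleton_iff.1 hy]; exact h⟩

theorem cen_le_norm (H : Subgroup G) : centralizer (H : Set G) ≤ normalizer (H : Set G) :=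
  centralizer_le_normalizer _

section

variable (c : Coord V R i j v w1 w2) (b : BT V R)
include c b

/-- the torus is transitive on `R i` -/
theorem trans_R [CharP F 2] {z z' : G} (hz : z ∈ R i) (hz1 : z ≠ 1) (hz' : z' ∈ R i) (hz1' : z' ≠ 1) :
    ∃ a : F, a ≠ 0 ∧ hh w1 w2 a * z * (hh w1 w2 a)⁻¹ = z' := by
  have _ := b
  obtain ⟨x, rfl⟩ := (c.mem_R1 _).1 hz
  obtain ⟨x', rfl⟩ := (c.mem_R1 _).1 hz'
  have hx : x ≠ 0 := fun h => hz1 (by rw [h, c.v_zero])
  have hx' : x' ≠ 0 := fun h => hz1' (by rw [h, c.v_zero])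
  refine ⟨x' * x⁻¹, mul_ne_zero hx' (inv_ne_zero hx), ?_⟩
  rw [c.hh_act (mul_ne_zero hx' (inv_ne_zero hx)), mul_zero, mul_assoc, inv_mul_cancel₀ hx, mul_one]

/-- a normal 2-subgroup of a subgroup containing `S` is in `S` -/
theorem le_sylow [Finite G] (S : Sylow 2 G) {L A : Subgroup G} (hSL : (S : Subgroup G) ≤ L) (hAL : A ≤ L)
    (hA : IsPGroup 2 A) (hn : L ≤ normalizer (A : Set G)) : A ≤ S := by
  have _ := c
  have _ := b
  have h1 : IsPGroup 2 ((S : Subgroup G) ⊔ A : Subgroup G) := by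
    have h2 : IsPGroup 2 (S.subgroupOf L ⊔ A.subgroupOf L : Subgroup L) := by
      have : (A.subgroupOf L).Normal := normal_subgroupOf_of_le_normalizer hn
      exact IsPGroup.to_sup_of_normal_right (S.isPGroup'.comap_of_injective _ L.subtype_injective)
        (hA.comap_of_injective _ L.subtype_injective)
    have h3 := h2.map L.subtype
    rwa [Subgroup.map_sup, subgroupOf_map_subtype, subgroupOf_map_subtype, inf_eq_left.2 hSL,
      inf_eq_left.2 hAL] at h3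
  rw [← S.is_maximal' h1 le_sup_left]
  exact le_sup_right

/-- **(1)** `O₂(C(z)) ≤ Q i` for all `1 ≠ z ∈ R i` -/
theorem O_le_Q [Finite G] [Finite F] [CharP F 2] (hU : ¬ UU V R j ≤ DD V R) (S : Sylow 2 G)
    (hSV : (S : Subgroup G) ≤ normalizer (V : Set G)) (hSR : (S : Subgroup G) ≤ normalizer (R i : Set G))
    {z : G} (hz : z ∈ R i) (hz1 : z ≠ 1) : O2 (centralizer {z}) ≤ QQ (R i) := by
  have : Fact (Nat.Prime 2) := ⟨Nat.prime_two⟩
  have hCN := cen_le_norm (R i)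
  -- a central element of `S` in `R i`
  obtain ⟨z0, hz0, hz01, hz0S⟩ : ∃ z0 ∈ R i, z0 ≠ 1 ∧ (S : Subgroup G) ≤ centralizer {z0} := by
    have hRS : R i ≤ (S : Subgroup G) := le_sylow c b S hSR (b.cen_le_N i |>.trans' (fun r hr =>
      b.V_le_cen (b.R_le i hr))) ((b.W_isPGroup i).to_le ((b.R_le i).trans (V_le_WW V (R i)))) le_rfl
    obtain ⟨m, hm, hm1, h⟩ := Cz.exists_fixed_mod (A := ⊥) S.isPGroup' hRS hSR
      (by
        intro x _
        rw [mem_normalizer_iff]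
        intro y
        simp) (fun h => b.R_ne i (le_bot_iff.1 h))
    refine ⟨m, hm, fun h => hm1 (by rw [h]; exact one_mem _), fun t ht => ?_⟩
    rw [mem_cen_one]
    have h2 := mem_bot.1 (h t ht)
    rw [mul_inv_eq_one, mul_inv_eq_iff_eq_mul] at h2
    exact h2.symm
  -- the result for `z0`
  have h0 : O2 (centralizer {z0}) ≤ QQ (R i) := by
    have hCK : centralizer (R i : Set G) ≤ centralizer {z0} := centralizer_le (Set.singleton_subset_iff.2 hz0)
    have hOS : O2 (centralizer {z0}) ≤ (S : Subgroup G) :=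
      le_sylow c b S hz0S (O2_le _) (O2_isPGroup _) (le_normalizer_O2 _)
    have h1 : O2 (centralizer {z0}) ⊓ centralizer (R i : Set G) ≤ QQ (R i) :=
      le_O2_of_chain (A := O2 (centralizer {z0}) ⊓ centralizer (R i : Set G)) (B := centralizer (R i : Set G))
        (C := centralizer (R i : Set G)) inf_le_right le_rfl hCN
        ((O2_isPGroup _).to_le inf_le_left)
        (fun g hg a ha => mem_inf.2 ⟨conj_mem_of_normalizer (le_normalizer_O2 _ (hCK hg)) (mem_inf.1 ha).1,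
          mul_mem (mul_mem hg (mem_inf.1 ha).2) (inv_mem hg)⟩)
        (fun g hg a ha => mul_mem (mul_mem hg ha) (inv_mem hg))
        (fun g hg a ha => conj_mem_of_normalizer (normalizer_le_normalizer_centralizer _ hg) ha)
    have hO : O2 (centralizer {z0}) ≤ centralizer (R i : Set G) := by
      refine Cz.O_le_cen c b hU (O2_isPGroup _) (hOS.trans hSV) (hOS.trans hSR) fun x hx g hg => ?_
      apply h1
      refine mem_inf.2 ⟨?_, ?_⟩
      · have e : x * g * x⁻¹ * g⁻¹ = x * (g * x⁻¹ * g⁻¹) := by group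
        rw [e]
        exact mul_mem hx (conj_mem_of_normalizer (le_normalizer_O2 _ (hCK hg)) (inv_mem hx))
      · exact mul_mem (conj_mem_of_normalizer (normalizer_le_normalizer_centralizer _ (hSR (hOS hx))) hg)
          (inv_mem hg)
    exact (le_inf le_rfl hO).trans h1
  obtain ⟨a, ha, he⟩ := trans_R c b hz0 hz01 hz hz1
  set t := hh w1 w2 a with ht
  have htR : t ∈ normalizer (R i : Set G) := cj_eq_self_iff.1 (c.hh_R1 b ha)
  have h1 : cj t (centralizer {z0}) = centralizer {z} := by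
    ext x
    rw [mem_cj, mem_cen_one, mem_cen_one]
    constructor
    · intro h2
      rw [← he]
      calc t * z0 * t⁻¹ * x = t * (z0 * (t⁻¹ * x * t)) * t⁻¹ := by group
        _ = t * (t⁻¹ * x * t * z0) * t⁻¹ := by rw [h2]
        _ = x * (t * z0 * t⁻¹) := by group
    · intro h2
      rw [← he] at h2
      calc z0 * (t⁻¹ * x * t) = t⁻¹ * (t * z0 * t⁻¹ * x) * t := by group
        _ = t⁻¹ * (x * (t * z0 * t⁻¹)) * t := by rw [h2]
        _ = t⁻¹ * x * t * z0 := by group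
  rw [← h1, ← cj_O2]
  have h2 : cj t (QQ (R i)) = QQ (R i) := cj_eq_self_iff.2 (le_normalizer_O2 _ htR)
  rw [← h2]
  exact cj_mono h0

end

/-- the hypotheses of TIR after (1) -/
structure Ctx [Finite F] (c : Coord V R i j v w1 w2) : Prop where
  btc : BTC V R
  Z : centralizer (WW V (R i) : Set G) ≤ R i
  O : ∀ z ∈ R i, z ≠ 1 → O2 (centralizer {z}) ≤ WW V (R i)
  OC : ∀ z ∈ R i, z ≠ 1 → ∀ g ∈ centralizer {z}, g ∈ centralizer (O2 (centralizer {z}) : Set G) →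
    g ∈ O2 (centralizer {z})

/-- `A z = C_W(O₂(C(z)))` -/
def AA (V : Subgroup G) (R : ι → Subgroup G) (i : ι) (z : G) : Subgroup G :=
  WW V (R i) ⊓ centralizer (O2 (centralizer {z}) : Set G)

namespace Ctx

variable [Finite F] {c : Coord V R i j v w1 w2} (h : Ctx c)
include h

theorem R_le_Oz {z : G} (hz : z ∈ R i) (hz1 : z ≠ 1) : R i ≤ O2 (centralizer {z}) := by
  intro r hr
  refine h.OC z hz hz1 r ?_ ?_
  · rw [mem_cen_one]
    exact h.btc.V_comm _ (h.btc.R_le i hz) r (h.btc.R_le i hr)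
  · rw [mem_centralizer_iff]
    intro o ho
    exact h.btc.QR i o (h.btc.W_le_Q i (h.O z hz hz1 ho)) r hr

theorem R_le_A {z : G} (hz : z ∈ R i) (hz1 : z ≠ 1) : R i ≤ AA V R i z := by
  refine le_inf ((h.btc.R_le i).trans (V_le_WW V (R i))) fun r hr => ?_
  rw [mem_centralizer_iff]
  intro o ho
  exact h.btc.QR i o (h.btc.W_le_Q i (h.O z hz hz1 ho)) r hr

omit h in
theorem A_conj {z g : G} (hg : g ∈ normalizer (R i : Set G)) (hgz : g ∈ centralizer {z}) {x : G}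
    (hx : x ∈ AA V R i z) : g * x * g⁻¹ ∈ AA V R i z := by
  obtain ⟨h1, h2⟩ := hx
  exact ⟨conj_mem_of_normalizer (normalizer_le_WW V (R i) hg) h1,
    conj_mem_of_normalizer (normalizer_le_normalizer_centralizer _ (le_normalizer_O2 _ hgz)) h2⟩

/-- **(OZ)** every conjugate of `R i` containing `z` is in `A z` -/
theorem conj_R_le_A [CharP F 2] {z g : G} (hz : z ∈ R i) (hz1 : z ≠ 1) (hg : z ∈ cj g (R i)) :
    ∃ k ∈ centralizer {z}, cj g (R i) = cj k (R i) ∧ cj g (R i) ≤ AA V R i z ∧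
      cj g (R i) ≤ O2 (centralizer {z}) := by
  rw [mem_cj] at hg
  have h1 : g⁻¹ * z * g ≠ 1 := by
    intro h2
    apply hz1
    calc z = g * (g⁻¹ * z * g) * g⁻¹ := by group
      _ = 1 := by rw [h2]; group
  obtain ⟨a, ha, he⟩ := trans_R c h.btc.toBT hg h1 hz hz1
  set t := hh w1 w2 a with ht
  have htR : cj t (R i) = R i := c.hh_R1 h.btc.toBT ha
  have hk : g * t⁻¹ ∈ centralizer {z} := by
    rw [mem_cen_one]
    have e2 : g⁻¹ * z * g = t⁻¹ * z * t := by
      conv_rhs => rw [← he]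
      group
    calc z * (g * t⁻¹) = g * (g⁻¹ * z * g) * t⁻¹ := by group
      _ = g * t⁻¹ * z := by rw [e2]; group
  have hcj : cj g (R i) = cj (g * t⁻¹) (R i) := by
    have e : cj t⁻¹ (R i) = R i := (cj_eq_iff.1 htR).symm
    rw [cj_mul, e]
  have hO : cj (g * t⁻¹) (O2 (centralizer {z})) = O2 (centralizer {z}) :=
    cj_eq_self_iff.2 (le_normalizer_O2 _ hk)
  have h2 : cj g (R i) ≤ O2 (centralizer {z}) := by
    rw [hcj, ← hO]
    exact cj_mono (h.R_le_Oz hz hz1)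
  refine ⟨_, hk, hcj, le_inf (h2.trans (h.O z hz hz1)) ?_, h2⟩
  rw [hcj, ← hO, centralizer_cj]
  exact cj_mono ((h.R_le_A hz hz1).trans inf_le_right)

/-- **(4)** `A z ∩ V ≤ R i` -/
theorem A_inf_V [CharP F 2] {z x : G} (hz : z ∈ R i) (hz1 : z ≠ 1) (hxA : x ∈ AA V R i z) (hxV : x ∈ V) :
    x ∈ R i := by
  by_contra hxR
  have b := h.btc
  obtain ⟨x1, x2, rfl⟩ := (c.mem_V x).1 hxV
  have hx2 : x2 ≠ 0 := by
    rintro rfl
    exact hxR (v_mem_R c x1)
  -- `V` is centralised by `O z`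
  have h1 : V ≤ AA V R i z := by
    refine le_inf (V_le_WW V (R i)) fun y hy => ?_
    rw [mem_centralizer_iff]
    intro o ho
    obtain ⟨a, ha⟩ := c.W1_act o (h.O z hz hz1 ho)
    have h2 := mem_centralizer_iff.1 hxA.2 o ho
    have h3 := ha x1 x2
    rw [h2, mul_inv_cancel_right] at h3
    have h4 : a * x2 = 0 := left_eq_add.1 (c.v_inj h3).1
    have h5 : a = 0 := (mul_eq_zero.1 h4).resolve_right hx2
    obtain ⟨y1, y2, rfl⟩ := (c.mem_V y).1 hy
    have h6 := ha y1 y2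
    rw [h5, zero_mul, add_zero, mul_inv_eq_iff_eq_mul] at h6
    exact h6
  -- `W ≤ A z`
  have h2 : WW V (R i) ≤ AA V R i z := by
    refine iSup_le fun g => ?_
    have hg := g.2
    set g' : G := (g : G) with hg'
    have h3 : g'⁻¹ * z * g' ∈ R i := conj_inv_mem_of_normalizer hg hz
    have h4 : g'⁻¹ * z * g' ≠ 1 := by
      intro h5
      apply hz1
      calc z = g' * (g'⁻¹ * z * g') * g'⁻¹ := by group
        _ = 1 := by rw [h5]; group
    obtain ⟨a, ha, he⟩ := trans_R c b.toBT hz hz1 h3 h4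
    set t := hh w1 w2 a with ht
    have htR : t ∈ normalizer (R i : Set G) := cj_eq_self_iff.1 (c.hh_R1 b.toBT ha)
    have htV : cj t V = V := cj_eq_self_iff.2 (b.X_le_NV (c.hh_mem_X b.toBT a))
    have h5 : g' * t ∈ centralizer {z} := by
      rw [mem_cen_one]
      calc z * (g' * t) = g' * (g'⁻¹ * z * g') * t := by group
        _ = g' * (t * z * t⁻¹) * t := by rw [he]
        _ = g' * t * z := by group
    have h6 : cj g' V = cj (g' * t) V := by rw [cj_mul, htV]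
    rw [h6]
    rintro _ ⟨y, hy, rfl⟩
    exact A_conj (mul_mem hg htR) h5 (h1 hy)
  -- `W ≤ O z`
  have h3 : WW V (R i) ≤ O2 (centralizer {z}) := by
    intro y hy
    refine h.OC z hz hz1 y ?_ (h2 hy).2
    rw [mem_cen_one]
    exact (b.QR i y (b.W_le_Q i hy) _ hz).symm
  have h4 : v 0 1 ∈ R i := by
    apply h.Z
    rw [mem_centralizer_iff]
    intro y hy
    exact mem_centralizer_iff.1 (h1 (c.v_mem 0 1)).2 y (h3 hy)
  exact one_ne_zero (c.v_one _ _ (b.eq_one c.ne h4 ((c.mem_R2 _).2 ⟨1, rfl⟩))).2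

/-- **(4)** `A z ∩ D ≤ R i` -/
theorem A_inf_D [CharP F 2] {z d : G} (hz : z ∈ R i) (hz1 : z ≠ 1) (hdA : d ∈ AA V R i z) (hd : d ∈ DD V R) :
    d ∈ R i := by
  have b := h.btc
  have hR : R i ≤ AA V R i z := h.R_le_A hz hz1
  have key : ∀ y ∈ YY V R, d * y * d⁻¹ * y⁻¹ ∈ R i := by
    intro y hy
    have hyV := YY_le_cen hy
    have hyz : y ∈ centralizer {z} := by
      rw [mem_cen_one]
      exact mem_centralizer_iff.1 hyV _ (b.R_le i hz)
    refine h.A_inf_V hz hz1 ?_ (b.lam_mem hd hy)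
    have e : d * y * d⁻¹ * y⁻¹ = d * (y * d⁻¹ * y⁻¹) := by group
    rw [e]
    exact mul_mem hdA (A_conj (b.cen_le_N i hyV) hyz (inv_mem hdA))
  refine h.A_inf_V hz hz1 hdA (b.lam_inj hd fun y hy => b.eq_one_of_forall fun k => ?_)
  obtain ⟨x, hx, hk⟩ := b.trans_X_one k i
  have h1 := key (x * y * x⁻¹) (conj_mem_of_normalizer (b.NV_le_NY (b.X_le_NV hx)) hy)
  rw [← b.lam_conj hx hd hy, ← hk] at h1
  have h2 := mem_cj.1 h1
  have e : x⁻¹ * (x * (d * y * d⁻¹ * y⁻¹) * x⁻¹) * x = d * y * d⁻¹ * y⁻¹ := by group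
  rwa [e] at h2

end Ctx

/-- the group generated by the conjugates of `R i` containing `z` -/
def EE (R : ι → Subgroup G) (i : ι) (z : G) : Subgroup G :=
  ⨆ g : {g : G // z ∈ cj g (R i)}, cj (g : G) (R i)

theorem le_EE {z g : G} (hg : z ∈ cj g (R i)) : cj g (R i) ≤ EE R i z :=
  le_iSup (fun g : {g : G // z ∈ cj g (R i)} => cj (g : G) (R i)) ⟨g, hg⟩

theorem R_le_EE {z : G} (hz : z ∈ R i) : R i ≤ EE R i z := by
  have h := le_EE (R := R) (i := i) (z := z) (g := (1 : G)) (by rwa [cj_one])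
  rwa [cj_one] at h

theorem EE_conj {z z' k x : G} (hk : k * z * k⁻¹ = z') (hx : x ∈ EE R i z) : k * x * k⁻¹ ∈ EE R i z' := by
  have h : cj k (EE R i z) ≤ EE R i z' := by
    rw [EE, cj_iSup]
    refine iSup_le fun g => ?_
    rw [← cj_mul]
    apply le_EE
    rw [← hk, cj_mul]
    exact conj_mem_cj g.2
  exact h (conj_mem_cj hx)

namespace Ctx

variable [Finite F] {c : Coord V R i j v w1 w2} (h : Ctx c)
include h

theorem EE_le_A [CharP F 2] {z : G} (hz : z ∈ R i) (hz1 : z ≠ 1) : EE R i z ≤ AA V R i z := by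
  refine iSup_le fun g => ?_
  obtain ⟨k, -, -, h1, -⟩ := h.conj_R_le_A hz hz1 g.2
  exact h1

/-- `E z` moves some line `V^n` unless `R i` is the only conjugate containing `z` -/
theorem exists_line [Finite G] {z g : G} (hg : z ∈ cj g (R i))
    (hne : cj g (R i) ≠ R i) : ∃ n ∈ normalizer (R i : Set G), ∃ w ∈ EE R i z,
      w ∉ centralizer (cj n V : Set G) := by
  by_contra hcon
  push Not at hcon
  apply hne
  have h1 : EE R i z ≤ R i := by
    intro w hw
    apply h.Z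
    rw [mem_centralizer_iff]
    intro y hy
    have h2 : WW V (R i) ≤ centralizer {w} := by
      refine iSup_le fun n x hx => ?_
      rw [mem_cen_one]
      exact (mem_centralizer_iff.1 (hcon n n.2 w hw) x hx).symm
    exact (mem_cen_one.1 (h2 hy)).symm
  exact eq_of_le_of_card_ge ((le_EE hg).trans h1) (card_cj g (R i)).ge

/-- the linear part: `E z` not centralising `V` -/
theorem four_aux [Finite G] [CharP F 2] (hF : ∃ a : F, a ≠ 0 ∧ a ≠ 1) (hU : ¬ UU V R i ≤ DD V R) {z w : G}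
    (hz : z ∈ R i) (hz1 : z ≠ 1) (hw : w ∈ EE R i z) (hwV : w ∉ centralizer (V : Set G)) :
    ∃ x ∈ EE R i z, x ∈ UU V R i ∧ x ∉ R i ∧ ∀ a : F, ∃ x' ∈ EE R i z, x' ∈ UU V R i ∧
      ∀ y ∈ WW V (R i), ∀ b, x * y * x⁻¹ * y⁻¹ = v b 0 → x' * y * x'⁻¹ * y⁻¹ = v (a * b) 0 := by
  have b := h.btc
  have hL := semilinear c b.toBT hF h.Z
  have hEA := h.EE_le_A hz hz1
  have hwW : w ∈ WW V (R i) := (hEA hw).1
  have hwU : w ∉ UU V R i := fun h1 => hwV h1.2
  -- `[w, u] ∈ E z`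
  have key : ∀ u ∈ UU V R j, w * u * w⁻¹ * u⁻¹ ∈ EE R i z := by
    intro u hu
    have huV := UU_le_cen j hu
    have e : w * u * w⁻¹ * u⁻¹ = w * (u * w⁻¹ * u⁻¹) := by group
    rw [e]
    refine mul_mem hw (EE_conj ?_ (inv_mem hw))
    rw [← mem_centralizer_iff.1 huV z (b.R_le i hz), mul_inv_cancel_right]
  obtain ⟨u1, hu1, hu1'⟩ := SetLike.not_le_iff_exists.1 hU
  obtain ⟨u2, hu2, hd⟩ := b.surj c.ne.symm hwW hwU hu1
  have hxU : w * u2 * w⁻¹ * u2⁻¹ ∈ UU V R i := b.WU' hwW hu2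
  have hxE := key u2 hu2
  set x := w * u2 * w⁻¹ * u2⁻¹ with hx
  have hxD : x ∉ DD V R := by
    intro h1
    apply hu1'
    have e : u1 = x * (x⁻¹ * u1) := by group
    rw [e]
    exact mul_mem h1 hd
  refine ⟨x, hxE, hxU, fun h1 => hxD (V_le_D V R (b.R_le i h1)), fun a => ?_⟩
  obtain ⟨x', hx', hlin⟩ := exists_smul c b.toBT hL (UU_le_WW i hxU) a
  have hcom : ∀ y ∈ WW V (R i), x * y = y * x → x' * y = y * x' := by
    intro y hy hxy
    have h1 := hlin y hy 0 (by rw [hxy, c.v_zero]; group)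
    rw [mul_zero, c.v_zero, mul_inv_eq_one, mul_inv_eq_iff_eq_mul] at h1
    exact h1
  have hx'U : x' ∈ UU V R i := by
    refine mem_inf.2 ⟨hx', ?_⟩
    rw [mem_centralizer_iff]
    intro y hy
    exact (hcom y (V_le_WW V (R i) hy) (mem_centralizer_iff.1 hxU.2 y hy).symm).symm
  have hx'A : x' ∈ AA V R i z := by
    refine mem_inf.2 ⟨hx', ?_⟩
    rw [mem_centralizer_iff]
    intro y hy
    exact (hcom y (h.O z hz hz1 hy) (mem_centralizer_iff.1 (hEA hxE).2 y hy).symm).symm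
  obtain ⟨u3, hu3, hd3⟩ := b.surj c.ne.symm hwW hwU hx'U
  have h3 := key u3 hu3
  have h4 := h.A_inf_D hz hz1 (mul_mem (inv_mem (hEA h3)) hx'A) hd3
  have h5 : x' ∈ EE R i z := by
    have e : x' = (w * u3 * w⁻¹ * u3⁻¹) * ((w * u3 * w⁻¹ * u3⁻¹)⁻¹ * x') := by group
    rw [e]
    exact mul_mem h3 (R_le_EE hz h4)
  exact ⟨x', h5, hx'U, hlin⟩

/-- **(4), the form used for `q = 4`** -/
theorem four [Finite G] [CharP F 2] (hF : ∃ a : F, a ≠ 0 ∧ a ≠ 1) (hU : ¬ UU V R i ≤ DD V R) {z g : G}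
    (hz : z ∈ R i) (hz1 : z ≠ 1) (hg : z ∈ cj g (R i)) (hne : cj g (R i) ≠ R i) :
    ∃ w ∈ EE R i z, ∃ x ∈ EE R i z, x ∉ R i ∧
      (∃ y ∈ WW V (R i), x * y = y * x ∧ w * y ≠ y * w) ∧ ∀ a : F, ∃ x' ∈ EE R i z,
      ∀ y ∈ WW V (R i), ∀ b, x * y * x⁻¹ * y⁻¹ = v b 0 → x' * y * x'⁻¹ * y⁻¹ = v (a * b) 0 := by
  have b := h.btc
  have hL := semilinear c b.toBT hF h.Z
  obtain ⟨n, hn, w, hw, hwn⟩ := h.exists_line hg hne
  have hz' : n⁻¹ * z * n ∈ R i := conj_inv_mem_of_normalizer hn hz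
  have hz1' : n⁻¹ * z * n ≠ 1 := by
    intro h1
    apply hz1
    calc z = n * (n⁻¹ * z * n) * n⁻¹ := by group
      _ = 1 := by rw [h1]; group
  have e1 : n⁻¹ * z * n⁻¹⁻¹ = n⁻¹ * z * n := by rw [inv_inv]
  have e2 : n * (n⁻¹ * z * n) * n⁻¹ = z := by group
  have hw' := EE_conj e1 hw
  have hwV : n⁻¹ * w * n⁻¹⁻¹ ∉ centralizer (V : Set G) := by
    intro h1
    apply hwn
    have h2 := conj_mem_cj (g := n) h1
    rw [← centralizer_cj] at h2
    have e3 : n * (n⁻¹ * w * n⁻¹⁻¹) * n⁻¹ = w := by group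
    rwa [e3] at h2
  obtain ⟨x, hxE, hxU, hxR, hlin⟩ := h.four_aux hF hU hz' hz1' hw' hwV
  obtain ⟨σ, hσ⟩ := exists_sigma c b.toBT hL hn
  obtain ⟨y0, hy0, hwy0⟩ : ∃ y ∈ cj n V, w * y ≠ y * w := by
    by_contra hcon
    push Not at hcon
    exact hwn (mem_centralizer_iff.2 fun y hy => (hcon y hy).symm)
  refine ⟨w, hw, n * x * n⁻¹, EE_conj e2 hxE, fun h1 => hxR ?_, ⟨y0, cj_le_WW hn hy0, ?_, hwy0⟩, fun a => ?_⟩
  · have h2 := conj_inv_mem_of_normalizer hn h1
    have e : n⁻¹ * (n * x * n⁻¹) * n = x := by group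
    rwa [e] at h2
  · have h2 := mem_centralizer_iff.1 hxU.2 _ (mem_cj.1 hy0)
    calc n * x * n⁻¹ * y0 = n * (x * (n⁻¹ * y0 * n)) * n⁻¹ := by group
      _ = n * (n⁻¹ * y0 * n * x) * n⁻¹ := by rw [h2]
      _ = y0 * (n * x * n⁻¹) := by group
  · obtain ⟨x', hx'E, hx'U, hx'⟩ := hlin (σ.symm a)
    refine ⟨n * x' * n⁻¹, EE_conj e2 hx'E, fun y hy d hd => ?_⟩
    have hy' : n⁻¹ * y * n ∈ WW V (R i) := conj_inv_mem_of_normalizer (normalizer_le_WW V (R i) hn) hy
    obtain ⟨e, he⟩ := (c.mem_R1 _).1 (b.WW_comm i (UU_le_WW i hxU) hy')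
    have h1 := hx' _ hy' e he.symm
    have k1 : n * v e 0 * n⁻¹ = v d 0 := by rw [he, ← hd]; group
    have k2 := hσ (σ.symm a) e d k1
    rw [σ.apply_symm_apply] at k2
    rw [← k2, ← h1]; group

end Ctx

end Cfsg.Agent.Omega.FSix
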