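import Cfsg.Agent.Omega.FSix.TirMain

/-!
THEOREM TIR, step (5): the end of the case `q = 4`.
-/

namespace Cfsg.Agent.Omega.FSix.Tir

/-- three homomorphisms to `ZMod 2` -/
theorem three_hom {H : Type*} [Group H] (a b c : H → ZMod 2)
    (ha : ∀ x y, a (x * y) = a x + a y) (hb : ∀ x y, b (x * y) = b x + b y)
    (hc : ∀ x y, c (x * y) = c x + c y) (h : ∀ x, a x = 0 → b x = 0 → c x = 0) :
    ∃ e d : ZMod 2, ∀ x, c x = e * a x + d * b x := by
  have two : ∀ t : ZMod 2, t = 0 ∨ t = 1 := by decide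
  have eq_of : ∀ x y, c (x * y) = 0 → c x = c y := by
    intro x y hxy
    rw [hc] at hxy
    rcases two (c x) with h1 | h1 <;> rcases two (c y) with h2 | h2 <;> rw [h1, h2] at hxy ⊢ <;>
      revert hxy <;> decide
  by_cases hA : ∃ xa, a xa = 1 ∧ b xa = 0
  · obtain ⟨xa, ha1, hb0⟩ := hA
    by_cases hB : ∃ xb, a xb = 0 ∧ b xb = 1
    · obtain ⟨xb, ha0, hb1⟩ := hB
      refine ⟨c xa, c xb, fun x => ?_⟩
      rcases two (a x) with h1 | h1 <;> rcases two (b x) with h2 | h2 <;> rw [h1, h2]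
      · rw [h x h1 h2]; ring
      · have : c (x * xb) = 0 := h _ (by rw [ha, h1, ha0]; decide) (by rw [hb, h2, hb1]; decide)
        rw [eq_of _ _ this]; ring
      · have : c (x * xa) = 0 := h _ (by rw [ha, h1, ha1]; decide) (by rw [hb, h2, hb0]; decide)
        rw [eq_of _ _ this]; ring
      · have : c (x * (xa * xb)) = 0 := h _ (by rw [ha, ha, h1, ha1, ha0]; decide)
          (by rw [hb, hb, h2, hb1, hb0]; decide)
        rw [eq_of _ _ this, hc]; ring
    · push Not at hB
      refine ⟨c xa, 0, fun x => ?_⟩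
      rcases two (a x) with h1 | h1
      · have h2 : b x = 0 := by
          rcases two (b x) with h2 | h2
          · exact h2
          · exact absurd h2 (hB x h1)
        rw [h x h1 h2, h1]; ring
      · have h3 : a (x * xa) = 0 := by rw [ha, h1, ha1]; decide
        have h2 : b (x * xa) = 0 := by
          rcases two (b (x * xa)) with h2 | h2
          · exact h2
          · exact absurd h2 (hB _ h3)
        rw [eq_of _ _ (h _ h3 h2), h1]; ring
  · push Not at hA
    have hA' : ∀ x, b x = 0 → a x = 0 := by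
      intro x hx
      rcases two (a x) with h1 | h1
      · exact h1
      · exact absurd hx (hA x h1)
    by_cases hB : ∃ xb, b xb = 1
    · obtain ⟨xb, hb1⟩ := hB
      refine ⟨0, c xb, fun x => ?_⟩
      rcases two (b x) with h2 | h2
      · rw [h x (hA' x h2) h2, h2]; ring
      · have h3 : b (x * xb) = 0 := by rw [hb, h2, hb1]; decide
        rw [eq_of _ _ (h _ (hA' _ h3) h3), h2]; ring
    · push Not at hB
      refine ⟨0, 0, fun x => ?_⟩
      have h2 : b x = 0 := by
        rcases two (b x) with h2 | h2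
        · exact h2
        · exact absurd h2 (hB x)
      rw [h x (hA' x h2) h2]; ring

/-- the union of the conjugates of `R` which contain `z` -/
def E {G : Type*} [Group G] (R : Subgroup G) (z : G) : Set G := {y | ∃ k, z ∈ cj k R ∧ y ∈ cj k R}

namespace Dat

variable {G : Type*} [Group G] {R Q : Subgroup G} {F : Type*} [Field F] {sm : F → G → G}

theorem cj_one (R : Subgroup G) : cj 1 R = R := by
  ext x
  rw [mem_cj]
  simp

theorem cj_mul (a b : G) (R : Subgroup G) : cj (a * b) R = cj a (cj b R) := by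
  ext x
  rw [mem_cj, mem_cj, mem_cj]
  have : (a * b)⁻¹ * x * (a * b) = b⁻¹ * (a⁻¹ * x * a) * b := by group
  rw [this]

theorem mem_E_self {z r : G} (hzR : z ∈ R) (hr : r ∈ R) : r ∈ E R z :=
  ⟨1, by rw [cj_one]; exact hzR, by rw [cj_one]; exact hr⟩

theorem E_le (D : Dat R Q sm) {z y k : G} (hz : z ≠ 1) (hk : z ∈ cj k R) (hy : y ∈ E R z) :
    y ∈ cj k Q := by
  obtain ⟨k1, hz1, hy1⟩ := hy
  rw [mem_cj] at hk hz1 hy1 ⊢
  have := D.oz (k⁻¹ * k1) (k⁻¹ * z * k) (by
    intro h
    apply hz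
    have : z = k * (k⁻¹ * z * k) * k⁻¹ := by group
    rw [this, h]; group) hk (by
    have e : (k⁻¹ * k1)⁻¹ * (k⁻¹ * z * k) * (k⁻¹ * k1) = k1⁻¹ * z * k1 := by group
    rw [e]; exact hz1) _ hy1
  have e : k⁻¹ * k1 * (k1⁻¹ * y * k1) * (k⁻¹ * k1)⁻¹ = k⁻¹ * y * k := by group
  rw [e] at this
  exact this

/-- two different conjugates of `R` (of order four) with `z` meet in `{1,z}` -/
theorem inter_four [Finite G] (h4 : Nat.card R = 4) {z k l : G} (hz : z ≠ 1)
    (hk : z ∈ cj k R) (hl : z ∈ cj l R) (hne : cj k R ≠ cj l R) :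
    ∀ d ∈ cj k R, d ∈ cj l R → d = 1 ∨ d = z := by
  intro d hdk hdl
  by_contra hcon
  push Not at hcon
  have hle : cj k R ⊓ cj l R ≤ cj k R := inf_le_left
  have hlt : cj k R ⊓ cj l R ≠ cj k R := by
    intro h
    apply hne
    have h1 : cj k R ≤ cj l R := by rw [← h]; exact inf_le_right
    exact Subgroup.eq_of_le_of_card_ge h1 (by rw [card_cj, card_cj])
  have hdvd : Nat.card (cj k R ⊓ cj l R : Subgroup G) ∣ 4 := by
    have := Subgroup.card_dvd_of_le hle
    rw [card_cj, h4] at this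
    exact this
  have hcard : Nat.card (cj k R ⊓ cj l R : Subgroup G) ≠ 4 := by
    intro h
    apply hlt
    exact Subgroup.eq_of_le_of_card_ge hle (by rw [h, card_cj, h4])
  have h3 : 3 ≤ Nat.card (cj k R ⊓ cj l R : Subgroup G) := by
    classical
    have hsub : (({1, z, d} : Finset G) : Set G) ⊆ ((cj k R ⊓ cj l R : Subgroup G) : Set G) := by
      intro b hb
      simp only [Finset.coe_insert, Finset.coe_singleton, Set.mem_insert_iff,
        Set.mem_singleton_iff] at hb
      rcases hb with rfl | rfl | rfl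
      · exact Subgroup.one_mem _
      · exact Subgroup.mem_inf.mpr ⟨hk, hl⟩
      · exact Subgroup.mem_inf.mpr ⟨hdk, hdl⟩
    have hc : (({1, z, d} : Finset G)).card = 3 := by
      rw [Finset.card_eq_three]
      exact ⟨1, z, d, hz.symm, hcon.1.symm, hcon.2.symm, rfl⟩
    have := Set.ncard_le_ncard hsub (Set.toFinite _)
    rw [Set.ncard_coe_finset, hc] at this
    exact this
  have hle4 : Nat.card (cj k R ⊓ cj l R : Subgroup G) ≤ 4 := Nat.le_of_dvd (by norm_num) hdvd
  interval_cases hcc : Nat.card (cj k R ⊓ cj l R : Subgroup G)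
  · omega
  · exact hcard rfl

/-- `E` is closed under multiplication -/
theorem E_mul (D : Dat R Q sm) {z : G} (hz : z ≠ 1) {y1 y2 : G}
    (h1 : y1 ∈ E R z) (h2 : y2 ∈ E R z) : y1 * y2 ∈ E R z := by
  have h2' := h2
  obtain ⟨k1, hz1, hy1⟩ := h1
  obtain ⟨k2, hz2, hy2⟩ := h2
  by_cases hy : y2 ∈ cj k1 R
  · exact ⟨k1, hz1, Subgroup.mul_mem _ hy1 hy⟩
  have D1 := D.conj k1
  have hyQ : y2 ∈ cj k1 Q := D.E_le hz hz1 h2'
  obtain ⟨x, hx, e⟩ := D1.surj y2 hyQ hy y1 hy1
  refine ⟨x * k2, ?_, ?_⟩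
  · rw [cj_mul, mem_cj]
    have := D1.cen x hx z hz1
    have e2 : x⁻¹ * z * x = z := by
      calc x⁻¹ * z * x = x⁻¹ * (z * x) := by group
        _ = x⁻¹ * (x * z) := by rw [this]
        _ = z := by group
    rw [e2]; exact hz2
  · rw [cj_mul, mem_cj]
    have e2 : x * y2 * x⁻¹ = y1 * y2 := by
      have h5 : x * y2 * x⁻¹ = (y2 * x * y2⁻¹ * x⁻¹)⁻¹ * y2 := by group
      rw [h5, e, D1.inv_mem_eq hy1]
    have e3 : x⁻¹ * (y1 * y2) * x = y2 := by rw [← e2]; group
    rw [e3]; exact hy2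

/-- the end of the case `q = 4` -/
theorem four_false [Finite G] (D : Dat R Q sm) (h4 : Nat.card R = 4) {z : G} (hz : z ≠ 1)
    (hzR : z ∈ R) {h h' w : G} (hh : h ∈ E R z) (hh' : h' ∈ E R z) (hw : w ∈ E R z) (hhR : h ∉ R)
    {ω : F} (hω0 : ω ≠ 0) (hω1 : ω ≠ 1)
    (hl : ∀ y ∈ Q, h' * y * h'⁻¹ * y⁻¹ = sm ω (h * y * h⁻¹ * y⁻¹))
    (hw' : ¬ ∃ a, ∀ y ∈ Q, w * y * w⁻¹ * y⁻¹ = sm a (h * y * h⁻¹ * y⁻¹)) : False := by
  classical
  have hQ1 : ∀ y, y ∈ E R z → y ∈ Q := by
    intro y hy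
    have := D.E_le (k := 1) hz (by rw [cj_one]; exact hzR) hy
    rwa [cj_one] at this
  have hhQ := hQ1 h hh
  have hh'Q := hQ1 h' hh'
  have hwQ := hQ1 w hw
  -- the line of w
  have hwR : w ∉ R := by
    intro hwR
    apply hw'
    refine ⟨0, fun y hy => ?_⟩
    rw [D.zero_sm (D.comm h hhQ y hy)]
    have := D.cen y hy w hwR
    calc w * y * w⁻¹ * y⁻¹ = y * w * w⁻¹ * y⁻¹ := by rw [this]
      _ = 1 := by group
  obtain ⟨k, hzk, hwk⟩ := id hw
  have Dk := D.conj k
  have hneR : cj k R ≠ R := by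
    intro h0; rw [h0] at hwk; exact hwR hwk
  have hw1 : w ≠ 1 := by rintro rfl; exact hwR R.one_mem
  have hwz : w ≠ z := by rintro rfl; exact hwR hzR
  -- elements of cj k R
  have hRk : ∀ d ∈ cj k R, d = 1 ∨ d = z ∨ d = w ∨ d = w * z := by
    have hc : Nat.card (cj k R) = 4 := by rw [card_cj, h4]
    have hsub : (({1, z, w, w * z} : Finset G) : Set G) ⊆ (cj k R : Set G) := by
      intro b hb
      simp only [Finset.coe_insert, Finset.coe_singleton, Set.mem_insert_iff,
        Set.mem_singleton_iff] at hb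
      rcases hb with rfl | rfl | rfl | rfl
      · exact Subgroup.one_mem _
      · exact hzk
      · exact hwk
      · exact Subgroup.mul_mem _ hwk hzk
    have hcf : (({1, z, w, w * z} : Finset G)).card = 4 := by
      have n1 : (1 : G) ≠ w * z := by
        intro h0
        apply hwz
        have := eq_inv_of_mul_eq_one_left h0.symm
        rw [this]; exact D.inv_mem_eq hzR
      have n2 : z ≠ w * z := by
        intro h0
        exact hw1 (right_eq_mul.mp h0)
      have n3 : w ≠ w * z := by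
        intro h0
        exact hz (left_eq_mul.mp h0)
      rw [Finset.card_insert_of_notMem, Finset.card_insert_of_notMem,
        Finset.card_insert_of_notMem, Finset.card_singleton]
      · simpa using n3
      · simp only [Finset.mem_insert, Finset.mem_singleton, not_or]
        exact ⟨fun h0 => hwz h0.symm, n2⟩
      · simp only [Finset.mem_insert, Finset.mem_singleton, not_or]
        exact ⟨hz.symm, hw1.symm, n1⟩
    have heq : (({1, z, w, w * z} : Finset G) : Set G) = (cj k R : Set G) := by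
      apply Set.eq_of_subset_of_ncard_le hsub _ (Set.toFinite _)
      rw [Set.ncard_coe_finset, hcf]
      exact hc.le
    intro d hd
    have : d ∈ (({1, z, w, w * z} : Finset G) : Set G) := by rw [heq]; exact hd
    simpa using this
  -- z2
  obtain ⟨z2, hz2R, hz2k⟩ := not_le (R := R) k hneR
  have hz2E : z2 ∈ E R z := mem_E_self hzR hz2R
  have hR4 : ∀ r ∈ R, r = 1 ∨ r = z ∨ r = z2 ∨ r = z2 * z := by
    intro r hr
    by_cases hrk : r ∈ cj k R
    · rcases inter_four (R := R) h4 (k := k) (l := 1) hz hzk (by rw [cj_one]; exact hzR)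
        (by rw [cj_one]; exact hneR) r hrk (by rw [cj_one]; exact hr) with h0 | h0
      · exact Or.inl h0
      · exact Or.inr (Or.inl h0)
    · -- r, z2, z, 1, ...: use the order
      by_contra hcon
      push Not at hcon
      have hz2z : z2 ≠ z := by rintro rfl; exact hz2k hzk
      have hz21 : z2 ≠ 1 := by rintro rfl; exact hz2k (Subgroup.one_mem _)
      have hsub : (({1, z, z2, z2 * z, r} : Finset G) : Set G) ⊆ (R : Set G) := by
        intro b hb
        simp only [Finset.coe_insert, Finset.coe_singleton, Set.mem_insert_iff,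
          Set.mem_singleton_iff] at hb
        rcases hb with rfl | rfl | rfl | rfl | rfl
        · exact R.one_mem
        · exact hzR
        · exact hz2R
        · exact R.mul_mem hz2R hzR
        · exact hr
      have hcf : (({1, z, z2, z2 * z, r} : Finset G)).card = 5 := by
        have n1 : (1 : G) ≠ z2 * z := by
          intro h0
          apply hz2z
          have := eq_inv_of_mul_eq_one_left h0.symm
          rw [this]; exact D.inv_mem_eq hzR
        have n2 : z ≠ z2 * z := by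
          intro h0
          exact hz21 (right_eq_mul.mp h0)
        have n3 : z2 ≠ z2 * z := by
          intro h0
          exact hz (left_eq_mul.mp h0)
        rw [Finset.card_insert_of_notMem, Finset.card_insert_of_notMem,
          Finset.card_insert_of_notMem, Finset.card_insert_of_notMem, Finset.card_singleton]
        · simp only [Finset.mem_singleton]
          exact fun h0 => hcon.2.2.2 h0.symm
        · simp only [Finset.mem_insert, Finset.mem_singleton, not_or]
          exact ⟨n3, fun h0 => hcon.2.2.1 h0.symm⟩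
        · simp only [Finset.mem_insert, Finset.mem_singleton, not_or]
          exact ⟨fun h0 => hz2z h0.symm, n2, fun h0 => hcon.2.1 h0.symm⟩
        · simp only [Finset.mem_insert, Finset.mem_singleton, not_or]
          exact ⟨hz.symm, hz21.symm, n1, fun h0 => hcon.1 h0.symm⟩
      have := Set.ncard_le_ncard hsub (Set.toFinite _)
      rw [Set.ncard_coe_finset, hcf] at this
      have h6 : Nat.card R = (R : Set G).ncard := rfl
      omega
  -- membership in cj k Q
  have hQk : ∀ y, y ∈ E R z → y ∈ cj k Q := fun y hy => D.E_le hz hzk hy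
  -- the functionals
  let v : G → (cj k Q) → ZMod 2 := fun b y =>
    if b * (y : G) * b⁻¹ * (y : G)⁻¹ = 1 ∨ b * (y : G) * b⁻¹ * (y : G)⁻¹ = z then 0 else 1
  -- additivity of the class in cj k R
  let u : G → ZMod 2 := fun d => if d = 1 ∨ d = z then 0 else 1
  have hzz : z * z = 1 := D.sq z hzR
  have hww : w * w = 1 := Dk.sq w hwk
  have hcomm : w * z = z * w := Dk.cen w (hQk w hw) z hzk
  have n1 : w * z ≠ 1 := by
    intro h0
    apply hwz
    have := eq_inv_of_mul_eq_one_left h0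
    rw [this]; exact D.inv_mem_eq hzR
  have n2 : w * z ≠ z := by
    intro h0
    exact hw1 (mul_eq_right.mp h0)
  have u1 : u 1 = 0 := by simp [u]
  have uz : u z = 0 := by simp [u]
  have uw : u w = 1 := by simp [u, hw1, hwz]
  have uwz : u (w * z) = 1 := by
    simp only [u]
    rw [if_neg]
    rintro (h0 | h0)
    · exact n1 h0
    · exact n2 h0
  have hu : ∀ d1 ∈ cj k R, ∀ d2 ∈ cj k R, u (d1 * d2) = u d1 + u d2 := by
    have t : (1 : ZMod 2) + 1 = 0 := by decide
    intro d1 hd1 d2 hd2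
    rcases hRk d1 hd1 with rfl | rfl | rfl | rfl
    · rw [one_mul, u1, zero_add]
    · rcases hRk d2 hd2 with rfl | rfl | rfl | rfl
      · rw [mul_one, u1, add_zero]
      · rw [hzz, u1, uz, add_zero]
      · rw [← hcomm, uwz, uz, uw, zero_add]
      · rw [hcomm, ← mul_assoc, hzz, one_mul, ← hcomm, uw, uz, uwz, zero_add]
    · rcases hRk d2 hd2 with rfl | rfl | rfl | rfl
      · rw [mul_one, u1, add_zero]
      · rw [uwz, uw, uz, add_zero]
      · rw [hww, u1, uw, t]
      · rw [← mul_assoc, hww, one_mul, uz, uw, uwz, t]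
    · rcases hRk d2 hd2 with rfl | rfl | rfl | rfl
      · rw [mul_one, u1, add_zero]
      · rw [mul_assoc, hzz, mul_one, uw, uwz, uz, add_zero]
      · rw [hcomm, mul_assoc, hww, mul_one, ← hcomm, uz, uwz, uw, t]
      · have : w * z * (w * z) = 1 := by
          calc w * z * (w * z) = w * z * (z * w) := by rw [hcomm]
            _ = w * (z * z) * w := by group
            _ = 1 := by rw [hzz, mul_one, hww]
        rw [this, u1, uwz, t]
  have hvu : ∀ b (y : cj k Q), v b y = u (b * (y : G) * b⁻¹ * (y : G)⁻¹) := fun b y => rfl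
  have hv : ∀ b, b ∈ cj k Q → ∀ x y : cj k Q, v b (x * y) = v b x + v b y := by
    intro b hb x y
    rw [hvu, hvu, hvu, Subgroup.coe_mul, Dk.br_mul_right hb x.2 y.2]
    exact hu _ (Dk.comm b hb x x.2) _ (Dk.comm b hb y y.2)
  have hvl : ∀ b c, b ∈ cj k Q → c ∈ cj k Q → ∀ x : cj k Q, v (b * c) x = v b x + v c x := by
    intro b c hb hc x
    rw [hvu, hvu, hvu, Dk.br_mul_left hb hc x.2]
    exact hu _ (Dk.comm b hb x x.2) _ (Dk.comm c hc x x.2)
  have hv0 : ∀ b, b ∈ cj k Q → (∀ x, v b x = 0) → b ∈ cj k R := by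
    intro b hb h0
    by_contra hbR
    obtain ⟨y, hy, ey⟩ := Dk.surj b hb hbR w hwk
    have := h0 ⟨y, hy⟩
    rw [hvu] at this
    simp only [ey, uw] at this
    exact one_ne_zero this
  -- the L_h criterion
  have hLh : ∀ b, b ∈ Q → (∃ a, ∀ y ∈ Q, b * y * b⁻¹ * y⁻¹ = sm a (h * y * h⁻¹ * y⁻¹)) →
      ∀ r ∈ R, w ≠ b * r := by
    rintro b hb ⟨a, ha⟩ r hr rfl
    apply hw'
    refine ⟨a, fun y hy => ?_⟩
    rw [D.br_mul_left hb (D.RQ hr) hy, ha y hy]
    have h1 : r * y * r⁻¹ * y⁻¹ = 1 := by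
      have := D.cen y hy r hr
      calc r * y * r⁻¹ * y⁻¹ = y * r * r⁻¹ * y⁻¹ := by rw [this]
        _ = 1 := by group
    rw [h1, mul_one]
  -- existence of the element y
  have hexy : ∃ y : cj k Q, v h y = 0 ∧ v z2 y = 0 ∧ v h' y = 1 := by
    by_contra hcon
    push Not at hcon
    have two : ∀ t : ZMod 2, t = 0 ∨ t = 1 := by decide
    obtain ⟨e, d, hed⟩ := three_hom (v h) (v z2) (v h') (hv h (hQk h hh)) (hv z2 (hQk z2 hz2E))
      (hv h' (hQk h' hh')) (by
        intro x h1 h2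
        rcases two (v h' x) with h3 | h3
        · exact h3
        · exact absurd h3 (hcon x h1 h2))
    have t : (1 : ZMod 2) + 1 = 0 := by decide
    -- the element b = h' h^e z2^d
    have hfin : ∀ b, b ∈ E R z → (∀ x, v b x = 0) → (∃ r ∈ R, b = h' * r ∨ b = h' * h * r) →
        False := by
      intro b hb h0 hbr
      have hbk := hv0 b (hQk b hb) h0
      obtain ⟨r, hr, hbr⟩ := hbr
      -- b in {1,z,w,wz}
      have hb1 : b ∉ R := by
        intro hbR
        -- then h' ∈ R or h' h ∈ R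
        obtain ⟨yh, hyh, eyh⟩ := D.surj h hhQ hhR z hzR
        have cz : ∀ c, c ∈ R → c * yh * c⁻¹ * yh⁻¹ = 1 := by
          intro c hc
          have := D.cen yh hyh c hc
          calc c * yh * c⁻¹ * yh⁻¹ = yh * c * c⁻¹ * yh⁻¹ := by rw [this]
            _ = 1 := by group
        rcases hbr with hbr | hbr
        · have h5 : h' ∈ R := by
            have : h' = b * r⁻¹ := by rw [hbr]; group
            rw [this]; exact R.mul_mem hbR (R.inv_mem hr)
          have h6 := hl yh hyh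
          rw [cz h' h5, eyh] at h6
          exact hz (D.eq_one_of_sm hω0 hzR h6.symm)
        · have h5 : h' * h ∈ R := by
            have : h' * h = b * r⁻¹ := by rw [hbr]; group
            rw [this]; exact R.mul_mem hbR (R.inv_mem hr)
          have h6 := cz _ h5
          rw [D.br_mul_left hh'Q hhQ hyh, hl yh hyh, eyh] at h6
          have h7 : sm (ω + 1) z = 1 := by rw [D.add ω 1 z hzR, D.one z hzR]; exact h6
          have h20 := D.two_eq_zero hzR hz
          have h8 : ω + 1 ≠ 0 := by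
            intro h9
            apply hω1
            have : ω = ω + 1 + 1 - 2 := by ring
            rw [this, h9, h20]; ring
          exact hz (D.eq_one_of_sm h8 hzR h7)
      -- so b ∈ {w, wz}
      have hbw : ∃ s ∈ R, w = b * s := by
        rcases hRk b hbk with h0 | h0 | h0 | h0
        · exact absurd (by rw [h0]; exact R.one_mem) hb1
        · exact absurd (by rw [h0]; exact hzR) hb1
        · exact ⟨1, R.one_mem, by rw [h0, mul_one]⟩
        · exact ⟨z, hzR, by rw [h0, mul_assoc, hzz, mul_one]⟩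
      obtain ⟨s, hs, hws⟩ := hbw
      rcases hbr with hbr | hbr
      · exact hLh h' hh'Q ⟨ω, hl⟩ (r * s) (R.mul_mem hr hs) (by rw [hws, hbr, mul_assoc])
      · refine hLh (h' * h) (Q.mul_mem hh'Q hhQ) ⟨ω + 1, fun y hy => ?_⟩ (r * s)
          (R.mul_mem hr hs) (by rw [hws, hbr, mul_assoc])
        rw [D.br_mul_left hh'Q hhQ hy, hl y hy, D.add ω 1 _ (D.comm h hhQ y hy),
          D.one _ (D.comm h hhQ y hy)]
    have hEh'h : h' * h ∈ E R z := D.E_mul hz hh' hh
    rcases two e with rfl | rfl <;> rcases two d with rfl | rfl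
    · exact hfin h' hh' (fun x => by rw [hed x]; ring) ⟨1, R.one_mem, Or.inl (by rw [mul_one])⟩
    · refine hfin (h' * z2) (D.E_mul hz hh' hz2E) (fun x => ?_) ⟨z2, hz2R, Or.inl rfl⟩
      rw [hvl h' z2 (hQk h' hh') (hQk z2 hz2E), hed x]
      rcases two (v z2 x) with h1 | h1 <;> rw [h1] <;> ring_nf <;> decide
    · refine hfin (h' * h) hEh'h (fun x => ?_) ⟨1, R.one_mem, Or.inr (by rw [mul_one])⟩
      rw [hvl h' h (hQk h' hh') (hQk h hh), hed x]
      rcases two (v h x) with h1 | h1 <;> rw [h1] <;> ring_nf <;> decide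
    · refine hfin (h' * h * z2) (D.E_mul hz hEh'h hz2E) (fun x => ?_) ⟨z2, hz2R, Or.inr rfl⟩
      rw [hvl _ z2 (hQk _ hEh'h) (hQk z2 hz2E), hvl h' h (hQk h' hh') (hQk h hh), hed x]
      rcases two (v h x) with h1 | h1 <;> rcases two (v z2 x) with h2 | h2 <;> rw [h1, h2] <;>
        ring_nf <;> decide
  obtain ⟨⟨y, hy⟩, vh, vz2, vh'⟩ := hexy
  rw [hvu] at vh vz2 vh'
  simp only at vh vz2 vh'
  -- translate
  have hzero : ∀ d, u d = 0 → d = 1 ∨ d = z := by
    intro d hd
    by_contra hcon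
    simp only [u] at hd
    rw [if_neg hcon] at hd
    exact one_ne_zero hd
  have a1 := hzero _ vh
  have a2 := hzero _ vz2
  have a3 : h' * y * h'⁻¹ * y⁻¹ = w ∨ h' * y * h'⁻¹ * y⁻¹ = w * z := by
    rcases hRk _ (Dk.comm h' (hQk h' hh') y hy) with h0 | h0 | h0 | h0
    · rw [h0, u1] at vh'; exact absurd vh'.symm one_ne_zero
    · rw [h0, uz] at vh'; exact absurd vh'.symm one_ne_zero
    · exact Or.inl h0
    · exact Or.inr h0
  have hzy : z * y = y * z := (Dk.cen y hy z hzk).symm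
  have hinvz : z⁻¹ = z := D.inv_mem_eq hzR
  -- y normalises R
  have hyR : ∀ r ∈ R, y * r * y⁻¹ ∈ R := by
    have hyz : y * z * y⁻¹ ∈ R := by
      rw [← hzy]
      have : z * y * y⁻¹ = z := by group
      rw [this]; exact hzR
    have hyz2 : y * z2 * y⁻¹ ∈ R := by
      rw [act_eq]
      rcases a2 with h0 | h0 <;> rw [h0]
      · rw [inv_one, one_mul]; exact hz2R
      · exact R.mul_mem (R.inv_mem hzR) hz2R
    intro r hr
    rcases hR4 r hr with rfl | rfl | rfl | rfl
    · have : y * 1 * y⁻¹ = 1 := by group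
      rw [this]; exact R.one_mem
    · exact hyz
    · exact hyz2
    · have : y * (z2 * z) * y⁻¹ = y * z2 * y⁻¹ * (y * z * y⁻¹) := by group
      rw [this]; exact R.mul_mem hyz2 hyz
  have hyRi : ∀ r ∈ R, y⁻¹ * r * y⁻¹⁻¹ ∈ R := by
    have : cj y R = R := by
      apply Subgroup.eq_of_le_of_card_ge _ (by rw [card_cj])
      intro r hr
      rw [mem_cj] at hr
      have h1 := hyR _ hr
      have e1 : y * (y⁻¹ * r * y) * y⁻¹ = r := by group
      rwa [e1] at h1
    intro r hr
    rw [← this, mem_cj] at hr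
    rw [inv_inv]; exact hr
  obtain ⟨σ, hσ⟩ := D.semi y hyR
  apply hw'
  refine ⟨σ ω + ω, fun x hx => ?_⟩
  -- conjugate the relation by y
  have hxQ : y⁻¹ * x * y ∈ Q := by
    have := D.NQ y⁻¹ hyRi x hx
    rwa [inv_inv] at this
  have r1 := hl _ hxQ
  have r2 := hσ ω _ (D.comm h hhQ _ hxQ)
  rw [← r1] at r2
  have r3 : y * (h' * (y⁻¹ * x * y) * h'⁻¹ * (y⁻¹ * x * y)⁻¹) * y⁻¹ =
      y * h' * y⁻¹ * x * (y * h' * y⁻¹)⁻¹ * x⁻¹ := by group
  have r4 : y * (h * (y⁻¹ * x * y) * h⁻¹ * (y⁻¹ * x * y)⁻¹) * y⁻¹ =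
      y * h * y⁻¹ * x * (y * h * y⁻¹)⁻¹ * x⁻¹ := by group
  rw [r3, r4] at r2
  have cz : ∀ c, c ∈ R → c * x * c⁻¹ * x⁻¹ = 1 := by
    intro c hc
    have := D.cen x hx c hc
    calc c * x * c⁻¹ * x⁻¹ = x * c * c⁻¹ * x⁻¹ := by rw [this]
      _ = 1 := by group
  -- [y h y⁻¹, x] = [h, x]
  have s1 : y * h * y⁻¹ * x * (y * h * y⁻¹)⁻¹ * x⁻¹ = h * x * h⁻¹ * x⁻¹ := by
    rw [act_eq y h]
    rcases a1 with h0 | h0 <;> rw [h0]
    · rw [inv_one, one_mul]
    · rw [hinvz, D.br_mul_left (D.RQ hzR) hhQ hx, cz z hzR, one_mul]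
  -- [y h' y⁻¹, x] = [w, x] [h', x]
  have s2 : y * h' * y⁻¹ * x * (y * h' * y⁻¹)⁻¹ * x⁻¹ =
      w * x * w⁻¹ * x⁻¹ * (h' * x * h'⁻¹ * x⁻¹) := by
    have hwi : w⁻¹ = w := inv_eq_of_mul_eq_one_left hww
    rw [act_eq y h']
    rcases a3 with h0 | h0 <;> rw [h0]
    · rw [hwi, D.br_mul_left hwQ hh'Q hx, hwi]
    · have e1 : (w * z)⁻¹ * h' = w * (z * h') := by
        rw [mul_inv_rev, hwi, hinvz, ← hcomm, mul_assoc]
      rw [e1, D.br_mul_left hwQ (Q.mul_mem (D.RQ hzR) hh'Q) hx,
        D.br_mul_left (D.RQ hzR) hh'Q hx, cz z hzR, one_mul]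
  rw [s1, s2, hl x hx] at r2
  have m1 := D.comm h hhQ x hx
  have m2 := D.smR ω _ m1
  have m3 := D.sq _ m2
  rw [D.add (σ ω) ω _ m1, ← r2]
  calc w * x * w⁻¹ * x⁻¹ = w * x * w⁻¹ * x⁻¹ *
        (sm ω (h * x * h⁻¹ * x⁻¹) * sm ω (h * x * h⁻¹ * x⁻¹)) := by rw [m3, mul_one]
    _ = w * x * w⁻¹ * x⁻¹ * sm ω (h * x * h⁻¹ * x⁻¹) * sm ω (h * x * h⁻¹ * x⁻¹) := by
      rw [mul_assoc (w * x * w⁻¹ * x⁻¹)]

end Dat

end Cfsg.Agent.Omega.FSix.Tir
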