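import Cfsg.Agent.Omega.FSix.Tir

/-!
THEOREM TIR, steps (2), (3): `R` is a TI-subgroup as soon as `|R| ≥ 8`.
-/

namespace Cfsg.Agent.Omega.FSix.Tir.Dat

variable {G : Type*} [Group G] {R Q : Subgroup G} {F : Type*} [Field F] {sm : F → G → G}

/-- `[b,xy] = [b,x][b,y]` -/
theorem br_mul_right (D : Dat R Q sm) {b x y : G} (hb : b ∈ Q) (hx : x ∈ Q) (hy : y ∈ Q) :
    b * (x * y) * b⁻¹ * (x * y)⁻¹ = b * x * b⁻¹ * x⁻¹ * (b * y * b⁻¹ * y⁻¹) := by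
  have h := D.cen x hx _ (D.comm b hb y hy)
  calc b * (x * y) * b⁻¹ * (x * y)⁻¹ = b * x * b⁻¹ * x⁻¹ * (x * (b * y * b⁻¹ * y⁻¹)) * x⁻¹ := by group
    _ = b * x * b⁻¹ * x⁻¹ * (b * y * b⁻¹ * y⁻¹ * x) * x⁻¹ := by rw [h]
    _ = _ := by group

/-- `[bc,x] = [b,x][c,x]` -/
theorem br_mul_left (D : Dat R Q sm) {b c x : G} (hb : b ∈ Q) (hc : c ∈ Q) (hx : x ∈ Q) :
    b * c * x * (b * c)⁻¹ * x⁻¹ = b * x * b⁻¹ * x⁻¹ * (c * x * c⁻¹ * x⁻¹) := by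
  have h := D.cen b hb _ (D.comm c hc x hx)
  have h2 := D.cen _ (Q.mul_mem (Q.mul_mem (Q.mul_mem hb hx) (Q.inv_mem hb)) (Q.inv_mem hx)) _
    (D.comm c hc x hx)
  calc b * c * x * (b * c)⁻¹ * x⁻¹ = b * (c * x * c⁻¹ * x⁻¹) * x * b⁻¹ * x⁻¹ := by group
    _ = c * x * c⁻¹ * x⁻¹ * b * x * b⁻¹ * x⁻¹ := by rw [h]
    _ = c * x * c⁻¹ * x⁻¹ * (b * x * b⁻¹ * x⁻¹) := by group
    _ = _ := h2.symm

/-- a conjugate of `R` which meets `R` contains `R` in its `Q` -/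
theorem le_cjQ (D : Dat R Q sm) {g z : G} (hz : z ≠ 1) (hzR : z ∈ R) (hzg : z ∈ cj g R) :
    ∀ r ∈ R, r ∈ cj g Q := by
  intro r hr
  rw [mem_cj] at hzg ⊢
  have := D.oz g⁻¹ (g⁻¹ * z * g) (by
    intro h
    apply hz
    have : z = g * (g⁻¹ * z * g) * g⁻¹ := by group
    rw [this, h]; group) hzg (by
    have e : g⁻¹⁻¹ * (g⁻¹ * z * g) * g⁻¹ = z := by group
    rw [e]; exact hzR) r hr
  simpa using this

theorem not_le (g : G) [Finite G] (hne : cj g R ≠ R) : ∃ b ∈ R, b ∉ cj g R := by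
  by_contra hcon
  push Not at hcon
  exact hne (Subgroup.eq_of_le_of_card_ge hcon (by rw [card_cj])).symm

/-- (*) of (2) -/
theorem star [Finite G] (D : Dat R Q sm) {g : G}
    (hmax : ∀ h, cj h R ≠ R →
      Nat.card (R ⊓ cj h R : Subgroup G) ≤ Nat.card (R ⊓ cj g R : Subgroup G))
    {x b : G} (hx : x ∈ cj g Q) (hb : b ∈ R) (hbg : b ∉ cj g R)
    (h : b * x * b⁻¹ * x⁻¹ ∈ R) : ∀ c ∈ R, c * x * c⁻¹ * x⁻¹ ∈ R := by
  have D' := D.conj g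
  have hx1 : x * b * x⁻¹ ∈ R := by
    have : x * b * x⁻¹ = (b * x * b⁻¹ * x⁻¹)⁻¹ * b := by group
    rw [this]; exact R.mul_mem (R.inv_mem h) hb
  have hle : R ⊓ cj g R ≤ R ⊓ cj x⁻¹ R := by
    intro r hr
    rw [Subgroup.mem_inf] at hr ⊢
    refine ⟨hr.1, ?_⟩
    rw [mem_cj]
    have := D'.cen x hx r hr.2
    have e : x⁻¹⁻¹ * r * x⁻¹ = r := by rw [inv_inv, this]; group
    rw [e]; exact hr.1
  have hbm : b ∈ R ⊓ cj x⁻¹ R := by
    rw [Subgroup.mem_inf, mem_cj]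
    refine ⟨hb, ?_⟩
    rw [inv_inv]; exact hx1
  have heq : cj x⁻¹ R = R := by
    by_contra hne
    have h1 := hmax _ hne
    have h2 := Subgroup.eq_of_le_of_card_ge hle h1
    rw [← h2, Subgroup.mem_inf] at hbm
    exact hbg hbm.2
  intro c hc
  have h1 : c ∈ cj x⁻¹ R := by rw [heq]; exact hc
  rw [mem_cj, inv_inv] at h1
  have e : c * x * c⁻¹ * x⁻¹ = c * (x * c * x⁻¹)⁻¹ := by group
  rw [e]; exact R.mul_mem hc (R.inv_mem h1)

/-- the action of an element of `Q'` on `R` -/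
theorem act_eq (x c : G) : x * c * x⁻¹ = (c * x * c⁻¹ * x⁻¹)⁻¹ * c := by group

theorem act_sq [Finite G] (D : Dat R Q sm) {g : G} {x : G} (hx : x ∈ cj g Q)
    (hRQ : ∀ r ∈ R, r ∈ cj g Q) (h : ∀ c ∈ R, c * x * c⁻¹ * x⁻¹ ∈ R) :
    ∀ r ∈ R, x * (x * r * x⁻¹) * x⁻¹ = r := by
  have D' := D.conj g
  intro r hr
  have h1 := h r hr
  have h2 : r * x * r⁻¹ * x⁻¹ ∈ cj g R := D'.comm r (hRQ r hr) x hx
  have h3 := D'.cen x hx _ h2
  set f := r * x * r⁻¹ * x⁻¹ with hf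
  have e1 : x * r * x⁻¹ = f⁻¹ * r := by rw [hf]; group
  have e2 : x * f⁻¹ * x⁻¹ = f⁻¹ := by
    have : x * f * x⁻¹ = f := by rw [h3]; group
    calc x * f⁻¹ * x⁻¹ = (x * f * x⁻¹)⁻¹ := by group
      _ = f⁻¹ := by rw [this]
  have e3 : f⁻¹ * f⁻¹ = 1 := by rw [D.inv_mem_eq h1]; exact D.sq f h1
  calc x * (x * r * x⁻¹) * x⁻¹ = x * (f⁻¹ * r) * x⁻¹ := by rw [e1]
    _ = x * f⁻¹ * x⁻¹ * (x * r * x⁻¹) := by group
    _ = f⁻¹ * (f⁻¹ * r) := by rw [e1, e2]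
    _ = r := by rw [← mul_assoc, e3, one_mul]

/-- (2) and (3): a maximal intersection has order two, and `|R| ≤ 4` -/
theorem core [Finite G] (D : Dat R Q sm) {g z : G} (hz : z ≠ 1) (hzR : z ∈ R) (hzg : z ∈ cj g R)
    (hne : cj g R ≠ R)
    (hmax : ∀ h, cj h R ≠ R →
      Nat.card (R ⊓ cj h R : Subgroup G) ≤ Nat.card (R ⊓ cj g R : Subgroup G)) :
    Nat.card R ≤ 4 := by
  have D' := D.conj g
  have hRQ := D.le_cjQ hz hzR hzg
  obtain ⟨b1, hb1, hb1g⟩ := not_le (R := R) g hne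
  -- existence of elements of Q'
  have hex : ∀ d ∈ R, d ∈ cj g R → ∃ x ∈ cj g Q, b1 * x * b1⁻¹ * x⁻¹ = d ∧
      ∀ c ∈ R, c * x * c⁻¹ * x⁻¹ ∈ R := by
    intro d hd hdg
    obtain ⟨x, hx, e⟩ := D'.surj b1 (hRQ b1 hb1) hb1g d hdg
    exact ⟨x, hx, e, D.star hmax hx hb1 hb1g (by rw [e]; exact hd)⟩
  -- Step A
  have hA : ∀ d1 ∈ R, d1 ∈ cj g R → d1 ≠ 1 → ∀ d2 ∈ R, d2 ∈ cj g R → d2 ≠ 1 → d1 = d2 := by
    intro d1 hd1 hd1g h1 d2 hd2 hd2g h2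
    obtain ⟨x, hx, ex, hxR⟩ := hex d1 hd1 hd1g
    obtain ⟨y, hy, ey, hyR⟩ := hex d2 hd2 hd2g
    have hxy : x * y ∈ cj g Q := Subgroup.mul_mem _ hx hy
    have hxyR : ∀ c ∈ R, c * (x * y) * c⁻¹ * (x * y)⁻¹ ∈ R := by
      intro c hc
      rw [D'.br_mul_right (hRQ c hc) hx hy]
      exact R.mul_mem (hxR c hc) (hyR c hc)
    have hxm : ∀ r ∈ R, x * r * x⁻¹ ∈ R := by
      intro r hr
      rw [act_eq]; exact R.mul_mem (R.inv_mem (hxR r hr)) hr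
    have hym : ∀ r ∈ R, y * r * y⁻¹ ∈ R := by
      intro r hr
      rw [act_eq]; exact R.mul_mem (R.inv_mem (hyR r hr)) hr
    have hne1 : x * b1 * x⁻¹ ≠ b1 := by
      rw [act_eq, ex]
      intro h
      exact h1 (inv_eq_one.mp (mul_eq_right.mp h))
    have hne2 : y * b1 * y⁻¹ ≠ b1 := by
      rw [act_eq, ey]
      intro h
      exact h2 (inv_eq_one.mp (mul_eq_right.mp h))
    have hs := D.same_act hxm hym (D.act_sq hx hRQ hxR) (D.act_sq hy hRQ hyR)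
      (D.act_sq hxy hRQ hxyR) ⟨b1, hb1, hne1⟩ ⟨b1, hb1, hne2⟩ b1 hb1
    rw [act_eq, D'.br_mul_right (hRQ b1 hb1) hx hy, ex, ey] at hs
    have h3 : d1 * d2 = 1 := inv_eq_one.mp (mul_eq_right.mp hs)
    rw [eq_inv_of_mul_eq_one_left h3]
    exact D.inv_mem_eq hd2
  have hint : ∀ d ∈ R, d ∈ cj g R → d = 1 ∨ d = z := by
    intro d hd hdg
    by_cases h : d = 1
    · exact Or.inl h
    · exact Or.inr (hA d hd hdg h z hzR hzg hz)
  -- Step B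
  have hB : ∀ c ∈ R, ∀ x0 ∈ cj g Q, b1 * x0 * b1⁻¹ * x0⁻¹ = z → c * x0 * c⁻¹ * x0⁻¹ = 1 →
      c ∈ cj g R := by
    intro c hc x0 hx0 e1 e2
    by_contra hcg
    apply hne
    apply Subgroup.eq_of_le_of_card_ge _ (by rw [card_cj])
    intro r' hr'
    obtain ⟨x, hx, ex⟩ := D'.surj c (hRQ c hc) hcg r' hr'
    have hs : b1 * x * b1⁻¹ * x⁻¹ ∈ cj g R := D'.comm b1 (hRQ b1 hb1) x hx
    obtain ⟨a, ha⟩ := D'.trans hzg hz hs
    obtain ⟨xa, hxa, hla⟩ := D'.lin a x0 hx0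
    have hphi : ∀ b ∈ R, b * xa * b⁻¹ * xa⁻¹ =
        g * sm a (g⁻¹ * (b * x0 * b⁻¹ * x0⁻¹) * g) * g⁻¹ := by
      intro b hb
      have h1 := hla b (hRQ b hb)
      have h2 : b * xa * b⁻¹ * xa⁻¹ ∈ cj g R := D'.comm b (hRQ b hb) xa hxa
      have h3 : b * x0 * b⁻¹ * x0⁻¹ ∈ cj g R := D'.comm b (hRQ b hb) x0 hx0
      have h4 := D'.inv_mem_eq h2
      have h5 := D'.inv_mem_eq h3
      have e4 : xa * b * xa⁻¹ * b⁻¹ = (b * xa * b⁻¹ * xa⁻¹)⁻¹ := by group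
      have e5 : x0 * b * x0⁻¹ * b⁻¹ = (b * x0 * b⁻¹ * x0⁻¹)⁻¹ := by group
      rw [e4, e5, h4, h5] at h1
      exact h1
    have p1 : b1 * xa * b1⁻¹ * xa⁻¹ = b1 * x * b1⁻¹ * x⁻¹ := by
      rw [hphi b1 hb1, e1]; exact ha
    have p2 : c * xa * c⁻¹ * xa⁻¹ = 1 := by
      rw [hphi c hc, e2]
      have : g⁻¹ * 1 * g = 1 := by group
      rw [this, D.sm_one]; group
    have hy : x * xa⁻¹ ∈ cj g Q := Subgroup.mul_mem _ hx (Subgroup.inv_mem _ hxa)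
    have q1 := D'.br_mul_right (hRQ b1 hb1) hy hxa
    have q2 := D'.br_mul_right (hRQ c hc) hy hxa
    rw [inv_mul_cancel_right, p1] at q1
    rw [inv_mul_cancel_right, p2, mul_one] at q2
    have q3 : b1 * (x * xa⁻¹) * b1⁻¹ * (x * xa⁻¹)⁻¹ = 1 := (right_eq_mul.mp q1)
    have q4 := D.star hmax hy hb1 hb1g (by rw [q3]; exact R.one_mem) c hc
    rw [← ex, q2]; exact q4
  obtain ⟨x0, hx0, e0, h0R⟩ := hex z hzR hzg
  have hcov : ∀ b ∈ R, b = 1 ∨ b = z ∨ b = b1 ∨ b = z * b1 := by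
    intro b hb
    have h1 := hint _ (h0R b hb) (D'.comm b (hRQ b hb) x0 hx0)
    rcases h1 with h1 | h1
    · have := hB b hb x0 hx0 e0 h1
      rcases hint b hb this with h | h
      · exact Or.inl h
      · exact Or.inr (Or.inl h)
    · have h2 : b * b1 * x0 * (b * b1)⁻¹ * x0⁻¹ = 1 := by
        rw [D'.br_mul_left (hRQ b hb) (hRQ b1 hb1) hx0, h1, e0]
        exact D.sq z hzR
      have h3 := hB (b * b1) (R.mul_mem hb hb1) x0 hx0 e0 h2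
      rcases hint _ (R.mul_mem hb hb1) h3 with h | h
      · right; right; left
        rw [eq_inv_of_mul_eq_one_left h]
        exact D.inv_mem_eq hb1
      · right; right; right
        rw [← h, mul_assoc, D.sq b1 hb1, mul_one]
  classical
  have hsub : (R : Set G) ⊆ (({1, z, b1, z * b1} : Finset G) : Set G) := by
    intro b hb
    have := hcov b hb
    simpa using this
  have h4 : (({1, z, b1, z * b1} : Finset G)).card ≤ 4 := Finset.card_le_four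
  have h5 := Set.ncard_le_ncard hsub (Finset.finite_toSet _)
  rw [Set.ncard_coe_finset] at h5
  have h6 : Nat.card R = (R : Set G).ncard := rfl
  rw [h6]
  exact h5.trans h4

/-- THEOREM TIR for `q ≥ 8` -/
theorem ti_large [Finite G] (D : Dat R Q sm) (h8 : 4 < Nat.card R) {g z : G} (hz : z ≠ 1)
    (hzR : z ∈ R) (hzg : z ∈ cj g R) : cj g R = R := by
  by_contra hne
  obtain ⟨g1, hg1, hmax⟩ := Set.exists_max_image {h : G | cj h R ≠ R}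
    (fun h => Nat.card (R ⊓ cj h R : Subgroup G)) (Set.toFinite _) ⟨g, hne⟩
  have h1 : 1 < Nat.card (R ⊓ cj g1 R : Subgroup G) := by
    refine lt_of_lt_of_le ?_ (hmax g hne)
    rw [Finite.one_lt_card_iff_nontrivial]
    rw [Subgroup.nontrivial_iff_exists_ne_one]
    exact ⟨z, Subgroup.mem_inf.mpr ⟨hzR, hzg⟩, hz⟩
  rw [Finite.one_lt_card_iff_nontrivial, Subgroup.nontrivial_iff_exists_ne_one] at h1
  obtain ⟨z1, hz1, hz1n⟩ := h1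
  rw [Subgroup.mem_inf] at hz1
  have := D.core hz1n hz1.1 hz1.2 hg1 (fun h hh => hmax h hh)
  omega

end Cfsg.Agent.Omega.FSix.Tir.Dat
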