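import Cfsg.Agent.Omega.FSix.Four
import Cfsg.Agent.Omega.FSix.TirMain
import Cfsg.Agent.Omega.FSix.TirFour

/-!
# THEOREM TIR (`#13229` of helper522): `R i` is a TI-subgroup, `C_G(z) ≤ N_G(R i)` for `1 ≠ z ∈ R i`, every `q ≥ 4`
-/

set_option autoImplicit false

namespace Cfsg.Agent.Omega.FSix

open Subgroup Cfsg.Agent.Omega.BTwo

universe u v w

variable {G : Type u} [Group G] {ι : Type w} {V : Subgroup G} {R : ι → Subgroup G} {i j : ι}
  {F : Type v} [Field F] {v : F → F → G} {w1 w2 : F → G}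

open Classical in
/-- the coordinate of an element of `R i` -/
noncomputable def rr (c : Coord V R i j v w1 w2) (x : G) : F :=
  if h : x ∈ R i then ((c.mem_R1 x).1 h).choose else 0

theorem v_rr (c : Coord V R i j v w1 w2) {x : G} (h : x ∈ R i) : v (rr c x) 0 = x := by
  rw [rr, dif_pos h]
  exact ((c.mem_R1 x).1 h).choose_spec

theorem rr_v (c : Coord V R i j v w1 w2) (a : F) : rr c (v a 0) = a :=
  (c.v_inj (v_rr c (v_mem_R c a))).1

/-- the scalar action on `R i` -/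
noncomputable def sm (c : Coord V R i j v w1 w2) (a : F) (x : G) : G := v (a * rr c x) 0

theorem sm_v (c : Coord V R i j v w1 w2) (a b : F) : sm c a (v b 0) = v (a * b) 0 := by
  rw [sm, rr_v]

theorem card_R (c : Coord V R i j v w1 w2) : Nat.card F = Nat.card (R i) := by
  refine Nat.card_congr (Equiv.ofBijective (fun a => (⟨v a 0, v_mem_R c a⟩ : R i)) ⟨?_, ?_⟩)
  · intro a b h
    exact (c.v_inj (congrArg Subtype.val h)).1
  · rintro ⟨x, hx⟩
    obtain ⟨a, ha⟩ := (c.mem_R1 x).1 hx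
    exact ⟨a, Subtype.ext ha⟩

namespace Ctx

variable [Finite F] {c : Coord V R i j v w1 w2} (h : Ctx c)
include h

/-- `W / R i` is semi-extraspecial -/
theorem surj {x r : G} (hx : x ∈ WW V (R i)) (hxR : x ∉ R i) (hr : r ∈ R i) :
    ∃ y ∈ WW V (R i), x * y * x⁻¹ * y⁻¹ = r := by
  have b := h.btc
  -- a line not centralised by `x`
  obtain ⟨g, hg, y0, hy0, hne⟩ : ∃ g ∈ normalizer (R i : Set G), ∃ y ∈ cj g V, x * y ≠ y * x := by
    by_contra hcon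
    push Not at hcon
    apply hxR
    apply h.Z
    rw [mem_centralizer_iff]
    intro y hy
    have h2 : WW V (R i) ≤ centralizer {x} := by
      refine iSup_le fun n y hy => ?_
      rw [mem_cen_one]
      exact hcon n n.2 y hy
    exact (mem_cen_one.1 (h2 hy)).symm
  have hx' : g⁻¹ * x * g ∈ WW V (R i) := conj_inv_mem_of_normalizer (normalizer_le_WW V (R i) hg) hx
  obtain ⟨a, ha⟩ := c.W1_act _ hx'
  have ha0 : a ≠ 0 := by
    rintro rfl
    apply hne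
    obtain ⟨b1, b2, hb⟩ := (c.mem_V _).1 (mem_cj.1 hy0)
    have h1 := ha b1 b2
    rw [zero_mul, add_zero, mul_inv_eq_iff_eq_mul, hb] at h1
    calc x * y0 = g * (g⁻¹ * x * g * (g⁻¹ * y0 * g)) * g⁻¹ := by group
      _ = g * (g⁻¹ * y0 * g * (g⁻¹ * x * g)) * g⁻¹ := by rw [h1]
      _ = y0 * x := by group
  obtain ⟨e, he⟩ := (c.mem_R1 _).1 (conj_inv_mem_of_normalizer hg hr)
  refine ⟨g * v 0 (a⁻¹ * e) * g⁻¹, conj_mem_W c b.toBT hg (c.v_mem _ _), ?_⟩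
  have h1 := comm_param c ha 0 (a⁻¹ * e)
  rw [← mul_assoc, mul_inv_cancel₀ ha0, one_mul, he] at h1
  calc x * (g * v 0 (a⁻¹ * e) * g⁻¹) * x⁻¹ * (g * v 0 (a⁻¹ * e) * g⁻¹)⁻¹
      = g * (g⁻¹ * x * g * v 0 (a⁻¹ * e) * (g⁻¹ * x * g)⁻¹ * (v 0 (a⁻¹ * e))⁻¹) * g⁻¹ := by group
    _ = r := by rw [h1]; group

theorem dat [Finite G] [CharP F 2] (hF : ∃ a : F, a ≠ 0 ∧ a ≠ 1) :
    Tir.Dat (R i) (WW V (R i)) (sm c) where
  RQ := (h.btc.R_le i).trans (V_le_WW V (R i))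
  cen := fun x hx r hr => h.btc.QR i x (h.btc.W_le_Q i hx) r hr
  comm := fun x hx y hy => h.btc.WW_comm i hx hy
  surj := fun x hx hxR r hr => h.surj hx hxR hr
  sq := fun r hr => h.btc.V_sq r (h.btc.R_le i hr)
  smR := fun a r _ => v_mem_R c _
  add := fun a b r hr => by
    obtain ⟨x, rfl⟩ := (c.mem_R1 r).1 hr
    rw [sm_v, sm_v, sm_v, add_mul]
    have e := c.v_add (a * x) 0 (b * x) 0
    rwa [add_zero] at e
  mul := fun a b r hr => by
    obtain ⟨x, rfl⟩ := (c.mem_R1 r).1 hr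
    rw [sm_v, sm_v, sm_v, mul_assoc]
  hom := fun a r hr s hs => by
    obtain ⟨x, rfl⟩ := (c.mem_R1 r).1 hr
    obtain ⟨y, rfl⟩ := (c.mem_R1 s).1 hs
    have e := c.v_add x 0 y 0
    have e2 := c.v_add (a * x) 0 (a * y) 0
    rw [add_zero] at e e2
    rw [← e, sm_v, sm_v, sm_v, mul_add, e2]
  one := fun r hr => by
    obtain ⟨x, rfl⟩ := (c.mem_R1 r).1 hr
    rw [sm_v, one_mul]
  card := card_R c
  lin := fun a x hx => by
    obtain ⟨x', hx', h1⟩ := exists_smul c h.btc.toBT (semilinear c h.btc.toBT hF h.Z) hx a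
    refine ⟨x', hx', fun y hy => ?_⟩
    obtain ⟨d, hd⟩ := (c.mem_R1 _).1 (h.btc.WW_comm i hx hy)
    rw [← hd, sm_v]
    exact h1 y hy d hd.symm
  semi := fun n hn => by
    obtain ⟨σ, hσ⟩ := exists_sigma c h.btc.toBT (semilinear c h.btc.toBT hF h.Z) (mem_normalizer_of_conj hn)
    refine ⟨σ, fun a r hr => ?_⟩
    obtain ⟨x, rfl⟩ := (c.mem_R1 r).1 hr
    obtain ⟨y, hy⟩ := (c.mem_R1 _).1 (hn _ hr)
    rw [sm_v, ← hy, sm_v]
    exact hσ a x y hy.symm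
  NQ := fun n hn x hx => conj_mem_of_normalizer (normalizer_le_WW V (R i) (mem_normalizer_of_conj hn)) hx
  oz := fun g z hz1 hz hg r hr => by
    obtain ⟨-, -, -, h1, -⟩ := h.conj_R_le_A hz hz1 (mem_cj.2 hg)
    exact (h1 (conj_mem_cj hr)).1

omit h in
theorem cj_eq (g : G) (H : Subgroup G) : Tir.cj g H = cj g H := rfl

theorem EE_sub [Finite G] [CharP F 2] (hF : ∃ a : F, a ≠ 0 ∧ a ≠ 1) {z : G} (hz1 : z ≠ 1) {x : G}
    (hx : x ∈ EE R i z) : x ∈ Tir.E (R i) z ∨ x = 1 := by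
  have D := h.dat hF
  let T : Subgroup G :=
    { carrier := {x | x ∈ Tir.E (R i) z ∨ x = 1}
      one_mem' := Or.inr rfl
      mul_mem' := by
        rintro x y (hx | hx) (hy | hy)
        · exact Or.inl (D.E_mul hz1 hx hy)
        · rw [hy, mul_one]; exact Or.inl hx
        · rw [hx, one_mul]; exact Or.inl hy
        · rw [hx, hy, mul_one]; exact Or.inr rfl
      inv_mem' := by
        rintro x (⟨k, hk, hx⟩ | hx)
        · exact Or.inl ⟨k, hk, inv_mem hx⟩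
        · rw [hx, inv_one]; exact Or.inr rfl }
  have hT : EE R i z ≤ T := iSup_le fun g y hy => Or.inl ⟨g, g.2, hy⟩
  exact hT hx

/-- **THEOREM TIR** -/
theorem ti [Finite G] [CharP F 2] (hF : ∃ a : F, a ≠ 0 ∧ a ≠ 1) (hU : ¬ UU V R i ≤ DD V R) {z g : G}
    (hz : z ∈ R i) (hz1 : z ≠ 1) (hg : z ∈ cj g (R i)) : cj g (R i) = R i := by
  have D := h.dat hF
  by_cases h4 : 4 < Nat.card (R i)
  · exact D.ti_large h4 hz1 hz hg
  -- `|R i| = 4`
  have h4' : Nat.card (R i) = 4 := by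
    rw [← card_R c] at h4 ⊢
    have := Fintype.ofFinite F
    obtain ⟨n, -, hn⟩ := FiniteField.card F 2
    rw [Nat.card_eq_fintype_card] at h4 ⊢
    obtain ⟨a, ha, ha1⟩ := hF
    classical
    have h5 : ({0, 1, a} : Finset F).card ≤ Fintype.card F := Finset.card_le_univ _
    rw [Finset.card_insert_of_notMem (by simp [ha.symm]), Finset.card_insert_of_notMem (by simp [ha1.symm]),
      Finset.card_singleton] at h5
    rw [hn] at h4 h5 ⊢
    have h6 : 0 < (n : ℕ) := n.pos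
    have h7 : (n : ℕ) < 3 := by
      by_contra h8
      have h9 : 2 ^ 3 ≤ 2 ^ (n : ℕ) := Nat.pow_le_pow_right (by norm_num) (not_lt.1 h8)
      omega
    have h8 : (n : ℕ) = 1 ∨ (n : ℕ) = 2 := by omega
    rcases h8 with h8 | h8
    · rw [h8] at h5; omega
    · rw [h8]; norm_num
  by_contra hne
  obtain ⟨w, hw, x, hx, hxR, ⟨y0, hy0, hxy0, hwy0⟩, hlin⟩ := h.four hF hU hz hz1 hg hne
  obtain ⟨a, ha, ha1⟩ := hF
  obtain ⟨x', hx', hl⟩ := hlin a
  have hxW : x ∈ WW V (R i) := (h.EE_le_A hz hz1 hx).1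
  have hone : (1 : G) ∈ Tir.E (R i) z := ⟨1, by rw [cj_eq, cj_one]; exact hz, one_mem _⟩
  have hE : ∀ {y}, y ∈ EE R i z → y ∈ Tir.E (R i) z := fun {y} hy => by
    rcases h.EE_sub ⟨a, ha, ha1⟩ hz1 hy with h1 | h1
    · exact h1
    · rw [h1]; exact hone
  refine D.four_false h4' hz1 hz (hE hx) (hE hx') (hE hw) hxR (ω := a) ha ha1 (fun y hy => ?_) ?_
  · obtain ⟨d, hd⟩ := (c.mem_R1 _).1 (h.btc.WW_comm i hxW hy)
    rw [← hd, sm_v]
    exact hl y hy d hd.symm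
  · rintro ⟨s, hs⟩
    apply hwy0
    have h1 := hs y0 hy0
    have e : x * y0 * x⁻¹ * y0⁻¹ = v 0 0 := by rw [hxy0, c.v_zero]; group
    rw [e, sm_v, mul_zero, c.v_zero, mul_inv_eq_one, mul_inv_eq_iff_eq_mul] at h1
    exact h1

/-- **THEOREM TIR**, elementwise -/
theorem ti' [Finite G] [CharP F 2] (hF : ∃ a : F, a ≠ 0 ∧ a ≠ 1) (hU : ¬ UU V R i ≤ DD V R) {r g : G}
    (hr : r ∈ R i) (hr1 : r ≠ 1) (hg : g * r * g⁻¹ ∈ R i) : g ∈ normalizer (R i : Set G) := by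
  rw [← cj_eq_self_iff]
  refine h.ti hF hU hg ?_ (conj_mem_cj hr)
  intro h1
  apply hr1
  calc r = g⁻¹ * (g * r * g⁻¹) * g := by group
    _ = 1 := by rw [h1]; group

/-- `C_G(z) ≤ N_G(R i)` -/
theorem cen_le [Finite G] [CharP F 2] (hF : ∃ a : F, a ≠ 0 ∧ a ≠ 1) (hU : ¬ UU V R i ≤ DD V R) {z : G}
    (hz : z ∈ R i) (hz1 : z ≠ 1) : centralizer {z} ≤ normalizer (R i : Set G) := by
  intro g hg
  refine h.ti' hF hU hz hz1 ?_
  rw [← mem_cen_one.1 hg, mul_inv_cancel_right]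
  exact hz

end Ctx

/-- **THEOREM TIR on BTwo**: `V` natural over `F` (`|F| ≥ 4`), `O₂(N(R i)) = W i`, `C(W i) ≤ R i`, `U j > D`, `S` a
Sylow 2-subgroup of `G` in `N(V) ∩ N(R i)`, `C(z)` 2-constrained with `O(C(z)) = 1` for `1 ≠ z ∈ R i`:
`R i` is a TI-subgroup of `G` -/
theorem tir [Finite G] [Finite F] [CharP F 2] (c : Coord V R i j v w1 w2) (b : BTC V R)
    (hF : ∃ a : F, a ≠ 0 ∧ a ≠ 1) (hU : ¬ UU V R j ≤ DD V R) (hZ : centralizer (WW V (R i) : Set G) ≤ R i)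
    (hQ : QQ (R i) = WW V (R i)) (S : Sylow 2 G) (hSV : (S : Subgroup G) ≤ normalizer (V : Set G))
    (hSR : (S : Subgroup G) ≤ normalizer (R i : Set G))
    (hOC : ∀ z ∈ R i, z ≠ 1 → ∀ g ∈ centralizer {z}, g ∈ centralizer (O2 (centralizer {z}) : Set G) →
      g ∈ O2 (centralizer {z})) :
    (∀ g r, r ∈ R i → r ≠ 1 → g * r * g⁻¹ ∈ R i → g ∈ normalizer (R i : Set G)) ∧
      ∀ z ∈ R i, z ≠ 1 → centralizer {z} ≤ normalizer (R i : Set G) := by
  have h : Ctx c := ⟨b, hZ, fun z hz hz1 => by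
    rw [← hQ]
    exact O_le_Q c b.toBT hU S hSV hSR hz hz1, hOC⟩
  -- `U i > D`
  have hU' : ¬ UU V R i ≤ DD V R := by
    intro h1
    apply hU
    obtain ⟨x, hx, e⟩ := b.trans_one i j
    rw [← b.cj_UU hx e, ← cj_eq_self_iff.2 (b.NV_le_ND hx)]
    exact cj_mono h1
  exact ⟨fun g r hr hr1 hg => h.ti' hF hU' hr hr1 hg, fun z hz hz1 => h.cen_le hF hU' hz hz1⟩

end Cfsg.Agent.Omega.FSix
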