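import Cfsg.Agent.Omega.BTwo.Coord
import Cfsg.Agent.Omega.BTwo.Cen

/-!
# THEOREM TIR (`#13229` of helper522), (0): ONE FIELD

`W = W i` with `C_W(W) = R i`: every element of `N(R i)` acts semilinearly on `R i = F`
(`semilinear`); `W / R i` is an `F`-space with `F`-bilinear commutator form (`exists_smul`).
-/

set_option autoImplicit false
set_option linter.unusedSectionVars false

namespace Cfsg.Agent.Omega.FSix

open Subgroup Cfsg.Agent.Omega.BTwo

universe u v w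

theorem comm_central {G : Type*} [Group G] {p q x y : G} (h1 : p * x = x * p) (h2 : p * y = y * p)
    (h3 : q * x = x * q) (h4 : q * y = y * q) (h5 : p * q = q * p) :
    (p * x) * (q * y) * (p * x)⁻¹ * (q * y)⁻¹ = x * y * x⁻¹ * y⁻¹ := by
  have k1 : Commute (p * q) x := (show Commute p x from h1).mul_left h3
  have k2 : Commute (p * q) y := (show Commute p y from h2).mul_left h4
  have e1 : (p * x) * (q * y) = (p * q) * (x * y) := by
    calc (p * x) * (q * y) = p * (x * q) * y := by group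
      _ = (p * q) * (x * y) := by rw [← h3]; group
  have e2 : (q * y) * (p * x) = (p * q) * (y * x) := by
    calc (q * y) * (p * x) = q * (y * p) * x := by group
      _ = (q * p) * (y * x) := by rw [← h2]; group
      _ = _ := by rw [h5]
  have k3 : Commute (p * q) (x * y * (y * x)⁻¹) := (k1.mul_right k2).mul_right (k2.mul_right k1).inv_right
  calc (p * x) * (q * y) * (p * x)⁻¹ * (q * y)⁻¹ = ((p * x) * (q * y)) * ((q * y) * (p * x))⁻¹ := by group
    _ = (p * q) * (x * y * (y * x)⁻¹) * (p * q)⁻¹ := by rw [e1, e2]; group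
    _ = x * y * (y * x)⁻¹ := by rw [k3.eq]; group
    _ = x * y * x⁻¹ * y⁻¹ := by group

variable {G : Type u} [Group G] {ι : Type w} {V : Subgroup G} {R : ι → Subgroup G} {i j : ι}
  {F : Type v} [Field F] {v : F → F → G} {w1 w2 : F → G}

section

variable (c : Coord V R i j v w1 w2)
include c

theorem v_split (x y : F) : v x y = v x 0 * v 0 y := by
  have h := c.v_add x 0 0 y
  rwa [add_zero, zero_add] at h

theorem v_mem_R (x : F) : v x 0 ∈ R i := (c.mem_R1 _).2 ⟨x, rfl⟩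

theorem conj_R {g : G} (hg : g ∈ normalizer (R i : Set G)) (x : F) : ∃ y, g * v x 0 * g⁻¹ = v y 0 := by
  obtain ⟨y, hy⟩ := (c.mem_R1 _).1 (conj_mem_of_normalizer hg (v_mem_R c x))
  exact ⟨y, hy.symm⟩

theorem conj_inj {g : G} {x y : F} (h : g * v x 0 * g⁻¹ = g * v y 0 * g⁻¹) : x = y :=
  (c.v_inj (mul_left_cancel (mul_right_cancel h))).1

/-- commutator with an element acting with parameter `a` -/
theorem comm_param {x : G} {a : F} (h : ∀ b d, x * v b d * x⁻¹ = v (b + a * d) d) (b d : F) :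
    x * v b d * x⁻¹ * (v b d)⁻¹ = v (a * d) 0 := by
  have e := c.v_add (a * d) 0 b d
  rw [zero_add, add_comm (a * d)] at e
  rw [h, e, mul_inv_cancel_right]

/-- the elements of `N(R i)` acting semilinearly on `R i` -/
def Lsub [Finite F] : Subgroup G where
  carrier := {g | g ∈ normalizer (R i : Set G) ∧
    ∀ a, ∃ a', ∀ b d, g * v b 0 * g⁻¹ = v d 0 → g * v (a * b) 0 * g⁻¹ = v (a' * d) 0}
  one_mem' := by
    refine ⟨one_mem _, fun a => ⟨a, fun b d h => ?_⟩⟩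
    rw [one_mul, inv_one, mul_one] at h ⊢
    rw [(c.v_inj h).1]
  mul_mem' := by
    rintro g h ⟨hg, hg'⟩ ⟨hh, hh'⟩
    refine ⟨mul_mem hg hh, fun a => ?_⟩
    obtain ⟨a1, h1⟩ := hh' a
    obtain ⟨a2, h2⟩ := hg' a1
    refine ⟨a2, fun b d hbd => ?_⟩
    obtain ⟨e, he⟩ := conj_R c hh b
    have e1 : ∀ x, g * h * x * (g * h)⁻¹ = g * (h * x * h⁻¹) * g⁻¹ := fun x => by group
    rw [e1] at hbd ⊢
    rw [he] at hbd
    rw [h1 b e he, h2 e d hbd]
  inv_mem' := by
    rintro g ⟨hg, hg'⟩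
    refine ⟨inv_mem hg, ?_⟩
    choose s hs using hg'
    have hinj : Function.Injective s := by
      intro x y hxy
      obtain ⟨d, hd⟩ := conj_R c hg 1
      have h1 := hs x 1 d hd
      have h2 := hs y 1 d hd
      rw [hxy, ← h2, mul_one, mul_one] at h1
      exact conj_inj c h1
    intro a
    obtain ⟨a0, rfl⟩ := Finite.surjective_of_injective hinj a
    refine ⟨a0, fun b d hbd => ?_⟩
    have h1 : g * v d 0 * g⁻¹ = v b 0 := by rw [← hbd]; group
    have h2 := hs a0 d b h1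
    rw [← h2]; group

theorem Lsub_le [Finite F] : Lsub c ≤ normalizer (R i : Set G) := fun _ h => h.1

/-- elements acting as scalars -/
theorem mem_L_of_scalar [Finite F] {g : G} (hg : g ∈ normalizer (R i : Set G)) {s : F}
    (h : ∀ b, g * v b 0 * g⁻¹ = v (s * b) 0) : g ∈ Lsub c := by
  refine ⟨hg, fun a => ⟨a, fun b d hbd => ?_⟩⟩
  rw [h] at hbd
  rw [h, ← (c.v_inj hbd).1]
  congr 1; ring

theorem mem_L_of_cen [Finite F] {g : G} (hg : g ∈ centralizer (R i : Set G)) : g ∈ Lsub c := by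
  refine mem_L_of_scalar c (s := 1) (centralizer_le_normalizer _ hg) fun b => ?_
  rw [← mem_centralizer_iff.1 hg _ (v_mem_R c b), one_mul, mul_inv_cancel_right]

end

section

variable (c : Coord V R i j v w1 w2) (b : BT V R)
include c b

theorem conj_mem_W {g x : G} (hg : g ∈ normalizer (R i : Set G)) (hx : x ∈ V) :
    g * x * g⁻¹ ∈ WW V (R i) := cj_le_WW hg (conj_mem_cj hx)

/-- **step A**: two lines which do not commute have the same field -/
theorem mem_L_of_not_comm [Finite F] {g x y : G} (hg : g ∈ normalizer (R i : Set G)) (hx : x ∈ V) (hy : y ∈ V)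
    (h : g * x * g⁻¹ * y ≠ y * (g * x * g⁻¹)) : g ∈ Lsub c := by
  have hgW := normalizer_le_WW V (R i) hg
  -- the parameters
  have k1 : ∀ e, ∃ a, ∀ b d, (g * v 0 e * g⁻¹) * v b d * (g * v 0 e * g⁻¹)⁻¹ = v (b + a * d) d := fun e =>
    c.W1_act _ (conj_mem_W c b hg (c.v_mem 0 e))
  have k2 : ∀ d, ∃ a, ∀ b e, (g⁻¹ * v 0 d * g) * v b e * (g⁻¹ * v 0 d * g)⁻¹ = v (b + a * e) e := fun d =>
    c.W1_act _ (conj_inv_mem_of_normalizer hgW (V_le_WW V (R i) (c.v_mem 0 d)))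
  choose α hα using k1
  choose β hβ using k2
  have E : ∀ d e, g * v (β d * e) 0 * g⁻¹ = v (α e * d) 0 := by
    intro d e
    have h1 := comm_param c (hα e) 0 d
    have h2 := comm_param c (hβ d) 0 e
    have h3 : (v (α e * d) 0)⁻¹ = v (α e * d) 0 := b.inv_eq (c.v_mem _ _)
    rw [← h2, ← h3, ← h1]
    group
  -- some parameter is not zero
  obtain ⟨b1, e1, rfl⟩ := (c.mem_V x).1 hx
  obtain ⟨b2, d2, rfl⟩ := (c.mem_V y).1 hy
  have hα0 : α e1 ≠ 0 := by
    intro h0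
    apply h
    have h1 := hα e1 b2 d2
    rw [h0, zero_mul, add_zero, mul_inv_eq_iff_eq_mul] at h1
    have h2 : g * v b1 0 * g⁻¹ ∈ R i := conj_mem_of_normalizer hg (v_mem_R c b1)
    have h3 := b.QR i _ (b.V_Q i hy) _ h2
    have e : g * v b1 e1 * g⁻¹ = (g * v b1 0 * g⁻¹) * (g * v 0 e1 * g⁻¹) := by
      rw [v_split c b1 e1]; group
    rw [e]
    calc (g * v b1 0 * g⁻¹) * (g * v 0 e1 * g⁻¹) * v b2 d2
        = (g * v b1 0 * g⁻¹) * ((g * v 0 e1 * g⁻¹) * v b2 d2) := by group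
      _ = (g * v b1 0 * g⁻¹) * v b2 d2 * (g * v 0 e1 * g⁻¹) := by rw [h1]; group
      _ = v b2 d2 * ((g * v b1 0 * g⁻¹) * (g * v 0 e1 * g⁻¹)) := by rw [← h3]; group
  refine ⟨hg, fun a => ⟨α (a * e1) * (α e1)⁻¹, fun x d hxd => ?_⟩⟩
  have h1 := E ((α e1)⁻¹ * d) e1
  rw [← mul_assoc, mul_inv_cancel₀ hα0, one_mul, ← hxd] at h1
  have h2 : β ((α e1)⁻¹ * d) * e1 = x := conj_inj c h1
  have h3 := E ((α e1)⁻¹ * d) (a * e1)
  have h4 : β ((α e1)⁻¹ * d) * (a * e1) = a * x := by rw [← h2]; ring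
  rw [h4] at h3
  rw [h3, mul_assoc]

/-- the lines with the field of `V`, the other lines -/
def WF [Finite F] : Subgroup G := ⨆ g : Lsub c, cj (g : G) V

def WF' [Finite F] : Subgroup G := ⨆ g : {g : G // g ∈ normalizer (R i : Set G) ∧ g ∉ Lsub c}, cj (g : G) V

omit b in
theorem le_WF [Finite F] {g : G} (hg : g ∈ Lsub c) : cj g V ≤ WF c :=
  le_iSup (fun g : Lsub c => cj (g : G) V) ⟨g, hg⟩

omit b in
theorem le_WF' [Finite F] {g : G} (hg : g ∈ normalizer (R i : Set G)) (h : g ∉ Lsub c) : cj g V ≤ WF' c :=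
  le_iSup (fun g : {g : G // g ∈ normalizer (R i : Set G) ∧ g ∉ Lsub c} => cj (g : G) V) ⟨g, hg, h⟩

omit b in
/-- `Lsub` normalises `WF` -/
theorem WF_conj [Finite F] {g x : G} (hg : g ∈ Lsub c) (hx : x ∈ WF c) : g * x * g⁻¹ ∈ WF c := by
  have h : cj g (WF c) ≤ WF c := by
    rw [WF, cj_iSup]
    refine iSup_le fun h => ?_
    rw [← cj_mul]
    exact le_WF c (mul_mem hg h.2)
  exact h (conj_mem_cj hx)

omit b in
theorem WF'_conj [Finite F] {g x : G} (hg : g ∈ Lsub c) (hx : x ∈ WF' c) : g * x * g⁻¹ ∈ WF' c := by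
  have h : cj g (WF' c) ≤ WF' c := by
    rw [WF', cj_iSup]
    refine iSup_le fun h => ?_
    rw [← cj_mul]
    refine le_WF' c (mul_mem (Lsub_le c hg) h.2.1) fun h1 => h.2.2 ?_
    have h2 := mul_mem (inv_mem hg) h1
    rwa [← mul_assoc, inv_mul_cancel, one_mul] at h2
  exact h (conj_mem_cj hx)

omit b in
theorem V_le_WF [Finite F] : V ≤ WF c := by
  have h := le_WF c (one_mem (Lsub c))
  rwa [cj_one] at h

theorem WF_le_W [Finite F] : WF c ≤ WW V (R i) := by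
  have _ := b
  exact iSup_le fun g => cj_le_WW (Lsub_le c g.2)

theorem WF'_le_W [Finite F] : WF' c ≤ WW V (R i) := by
  have _ := b
  exact iSup_le fun g => cj_le_WW g.2.1

/-- `[WF, WF'] = 1` -/
theorem WF_comm [Finite F] {x y : G} (hx : x ∈ WF c) (hy : y ∈ WF' c) : x * y = y * x := by
  have key : ∀ g ∈ Lsub c, ∀ h ∈ normalizer (R i : Set G), h ∉ Lsub c → ∀ x ∈ cj g V, ∀ y ∈ cj h V,
      x * y = y * x := by
    intro g hg h hh hh' x hx y hy
    by_contra hne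
    apply hh'
    rw [mem_cj] at hx hy
    have h1 : g⁻¹ * h ∈ Lsub c := by
      refine mem_L_of_not_comm c b (mul_mem (inv_mem (Lsub_le c hg)) hh) hy hx fun e => hne ?_
      calc x * y = g * ((g⁻¹ * x * g) * (g⁻¹ * h * (h⁻¹ * y * h) * (g⁻¹ * h)⁻¹)) * g⁻¹ := by group
        _ = g * ((g⁻¹ * h * (h⁻¹ * y * h) * (g⁻¹ * h)⁻¹) * (g⁻¹ * x * g)) * g⁻¹ := by rw [e]
        _ = y * x := by group
    have h2 := mul_mem hg h1
    rwa [← mul_assoc, mul_inv_cancel, one_mul] at h2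
  have h1 : ∀ g ∈ Lsub c, ∀ x ∈ cj g V, WF' c ≤ centralizer {x} := by
    intro g hg x hx
    refine iSup_le fun h y hy => ?_
    rw [mem_centralizer_iff]
    rintro _ rfl
    exact key g hg h h.2.1 h.2.2 _ hx y hy
  have h2 : WF c ≤ centralizer {y} := by
    refine iSup_le fun g x hx => ?_
    rw [mem_centralizer_iff]
    rintro _ rfl
    exact (mem_centralizer_iff.1 (h1 g g.2 x hx hy) x rfl).symm
  exact (mem_centralizer_iff.1 (h2 hx) y rfl).symm

/-- what commutes with `WF` and `WF'` commutes with `W i` -/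
theorem mem_cen_W [Finite F] {x : G} (h1 : ∀ y ∈ WF c, x * y = y * x) (h2 : ∀ y ∈ WF' c, x * y = y * x) :
    x ∈ centralizer (WW V (R i) : Set G) := by
  have _ := b
  have h : WW V (R i) ≤ centralizer {x} := by
    refine iSup_le fun g y hy => ?_
    rw [mem_centralizer_iff]
    rintro _ rfl
    by_cases hg : (g : G) ∈ Lsub c
    · exact h1 y (le_WF c hg hy)
    · exact h2 y (le_WF' c g.2 hg hy)
  rw [mem_centralizer_iff]
  exact fun y hy => (mem_centralizer_iff.1 (h hy) x rfl).symm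

/-- **(0)** every element of `N(R i)` is semilinear on `R i` -/
theorem semilinear [Finite G] [Finite F] [CharP F 2] (hF : ∃ a : F, a ≠ 0 ∧ a ≠ 1)
    (hW : centralizer (WW V (R i) : Set G) ≤ R i) : normalizer (R i : Set G) ≤ Lsub c := by
  by_contra hcon
  obtain ⟨g0, hg0, hg0'⟩ := SetLike.not_le_iff_exists.1 hcon
  obtain ⟨a, ha, ha1⟩ := hF
  have hR : R i ≤ WW V (R i) := (b.R_le i).trans (V_le_WW V (R i))
  -- `V` is not centralised by `WF`
  have h1 : ∃ w ∈ WF c, w ∉ centralizer (V : Set G) := by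
    by_contra h
    push Not at h
    have h2 : v 0 1 ∈ R i := hW (mem_cen_W c b
      (fun y hy => mem_centralizer_iff.1 (h y hy) _ (c.v_mem 0 1))
      (fun y hy => WF_comm c b (V_le_WF c (c.v_mem 0 1)) hy))
    exact one_ne_zero (c.v_one _ _ (b.eq_one c.ne h2 ((c.mem_R2 _).2 ⟨1, rfl⟩))).2
  obtain ⟨w, hw, hwV⟩ := h1
  have hwW := WF_le_W c b hw
  have hwU : w ∉ UU V R i := fun h => hwV h.2
  -- `U i ≤ WF D`
  have h2 : ∀ u ∈ UU V R i, ∃ y ∈ WF c, ∃ d ∈ DD V R, u = y * d := by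
    intro u hu
    obtain ⟨u2, hu2, hd⟩ := b.surj c.ne.symm hwW hwU hu
    refine ⟨w * u2 * w⁻¹ * u2⁻¹, ?_, _, hd, by group⟩
    have h3 : u2 ∈ Lsub c := mem_L_of_cen c
      (centralizer_le (b.R_le i) (UU_le_cen j hu2))
    have h4 := WF_conj c h3 (inv_mem hw)
    have e : w * u2 * w⁻¹ * u2⁻¹ = w * (u2 * w⁻¹ * u2⁻¹) := by group
    rw [e]
    exact mul_mem hw h4
  -- the torus
  set t := hh w1 w2 a with ht
  have htX : t ∈ XX V R := c.hh_mem_X b a
  have htR : t ∈ normalizer (R i : Set G) := cj_eq_self_iff.1 (c.hh_R1 b ha)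
  have htL : t ∈ Lsub c := by
    refine mem_L_of_scalar c htR (s := a) fun x => ?_
    have h := c.hh_act ha x 0
    rwa [mul_zero] at h
  -- `[WF', T] ≤ R i`
  have h3 : ∀ x ∈ WF' c, t * x * t⁻¹ * x⁻¹ ∈ R i := by
    intro x hx
    have hxW := WF'_le_W c b hx
    have hxU : x ∈ UU V R i := by
      refine mem_inf.2 ⟨hxW, ?_⟩
      rw [mem_centralizer_iff]
      exact fun y hy => WF_comm c b (V_le_WF c hy) hx
    obtain ⟨y, hy, d, hd, rfl⟩ := h2 x hxU
    have k1 : t * (y * d) * t⁻¹ * (y * d)⁻¹ ∈ WF' c := mul_mem (WF'_conj c htL hx) (inv_mem hx)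
    have k2 : t * (y * d) * t⁻¹ * (y * d)⁻¹ ∈ WF c := by
      have e : t * (y * d) * t⁻¹ * (y * d)⁻¹ = (t * y * t⁻¹) * (t * d * t⁻¹ * d⁻¹) * y⁻¹ := by group
      rw [e]
      exact mul_mem (mul_mem (WF_conj c htL hy) (V_le_WF c (b.XD htX hd))) (inv_mem hy)
    exact hW (mem_cen_W c b (fun z hz => (WF_comm c b hz k1).symm) (fun z hz => WF_comm c b k2 hz))
  -- `WF'` is abelian
  have h4 : ∀ x ∈ WF' c, ∀ y ∈ WF' c, x * y = y * x := by
    intro x hx y hy
    have hxW := WF'_le_W c b hx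
    have hyW := WF'_le_W c b hy
    have r1 := h3 x hx
    have r2 := h3 y hy
    have hc := b.WW_comm i hxW hyW
    obtain ⟨s, hs⟩ := (c.mem_R1 _).1 hc
    have e1 : t * (x * y * x⁻¹ * y⁻¹) * t⁻¹ = x * y * x⁻¹ * y⁻¹ := by
      have e2 : t * x * t⁻¹ = (t * x * t⁻¹ * x⁻¹) * x := by group
      have e3 : t * y * t⁻¹ = (t * y * t⁻¹ * y⁻¹) * y := by group
      have e4 := comm_central (p := t * x * t⁻¹ * x⁻¹) (q := t * y * t⁻¹ * y⁻¹) (x := x) (y := y)
        (b.QR i x (b.W_le_Q i hxW) _ r1).symm (b.QR i y (b.W_le_Q i hyW) _ r1).symm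
        (b.QR i x (b.W_le_Q i hxW) _ r2).symm (b.QR i y (b.W_le_Q i hyW) _ r2).symm
        (b.V_comm _ (b.R_le i r1) _ (b.R_le i r2))
      rw [← e2, ← e3] at e4
      calc t * (x * y * x⁻¹ * y⁻¹) * t⁻¹
          = t * x * t⁻¹ * (t * y * t⁻¹) * (t * x * t⁻¹)⁻¹ * (t * y * t⁻¹)⁻¹ := by group
        _ = _ := e4
    rw [← hs] at e1
    have e5 := c.hh_act ha s 0
    rw [← ht, e1, mul_zero] at e5
    have e6 := (c.v_inj e5).1
    have e7 : s = 0 := by
      have : (a - 1) * s = 0 := by rw [sub_mul, one_mul, ← e6, sub_self]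
      exact (mul_eq_zero.1 this).resolve_left (sub_ne_zero.2 ha1)
    rw [e7, c.v_zero, eq_comm, mul_inv_eq_one, mul_inv_eq_iff_eq_mul] at hs
    exact hs
  -- the end
  have h5 : g0 * v 0 1 * g0⁻¹ ∈ R i := by
    have h6 := le_WF' c hg0 hg0' (conj_mem_cj (c.v_mem 0 1))
    exact hW (mem_cen_W c b (fun y hy => (WF_comm c b hy h6).symm) (fun y hy => h4 _ h6 y hy))
  have h7 := conj_inv_mem_of_normalizer hg0 h5
  have e : g0⁻¹ * (g0 * v 0 1 * g0⁻¹) * g0 = v 0 1 := by group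
  rw [e] at h7
  exact one_ne_zero (c.v_one _ _ (b.eq_one c.ne h7 ((c.mem_R2 _).2 ⟨1, rfl⟩))).2

/-! ### the `F`-structure -/

/-- the scalar `σ_g(a)`: `g (a r) g⁻¹ = σ_g(a) (g r g⁻¹)` for `r ∈ R i` -/
theorem exists_sigma [Finite F] (hL : normalizer (R i : Set G) ≤ Lsub c) {g : G}
    (hg : g ∈ normalizer (R i : Set G)) :
    ∃ σ : F ≃+* F, ∀ a b d, g * v b 0 * g⁻¹ = v d 0 → g * v (a * b) 0 * g⁻¹ = v (σ a * d) 0 := by
  obtain ⟨-, h⟩ := hL hg
  choose s hs using h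
  obtain ⟨d, hd⟩ := conj_R c hg 1
  have hd0 : d ≠ 0 := by
    rintro rfl
    rw [c.v_zero, mul_inv_eq_one, mul_eq_left] at hd
    exact one_ne_zero (c.v_one _ _ hd).1
  have h1 : ∀ a, g * v a 0 * g⁻¹ = v (s a * d) 0 := fun a => by
    have := hs a 1 d hd
    rwa [mul_one] at this
  have hadd : ∀ x y, s (x + y) = s x + s y := by
    intro x y
    have e := c.v_add x 0 y 0
    rw [add_zero] at e
    have e1 : v (s (x + y) * d) 0 = v ((s x + s y) * d) 0 := by
      have e2 := c.v_add (s x * d) 0 (s y * d) 0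
      rw [add_zero] at e2
      rw [← h1, e, add_mul, e2, ← h1, ← h1]; group
    exact mul_right_cancel₀ hd0 (c.v_inj e1).1
  have hmul : ∀ x y, s (x * y) = s x * s y := by
    intro x y
    have e1 := hs x y (s y * d) (h1 y)
    rw [h1] at e1
    have e2 := (c.v_inj e1).1
    rw [← mul_assoc] at e2
    exact mul_right_cancel₀ hd0 e2
  have hone : s 1 = 1 := by
    have e1 := h1 1
    rw [hd] at e1
    exact mul_right_cancel₀ hd0 ((c.v_inj e1).1.symm.trans (one_mul d).symm)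
  have hinj : Function.Injective s := by
    intro x y hxy
    refine conj_inj c (g := g) ?_
    rw [h1, h1, hxy]
  let f : F →+* F :=
    { toFun := s
      map_one' := hone
      map_mul' := hmul
      map_zero' := by
        have := hadd 0 0
        rw [add_zero] at this
        exact left_eq_add.1 this
      map_add' := hadd }
  exact ⟨RingEquiv.ofBijective f ⟨hinj, Finite.surjective_of_injective hinj⟩, fun a b d hbd => hs a b d hbd⟩

/-- **LIN**: `W / R i` is an `F`-space and the commutator form is `F`-bilinear -/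
theorem exists_smul [Finite F] (hL : normalizer (R i : Set G) ≤ Lsub c) {x : G} (hx : x ∈ WW V (R i)) (a : F) :
    ∃ x' ∈ WW V (R i), ∀ y ∈ WW V (R i), ∀ b, x * y * x⁻¹ * y⁻¹ = v b 0 → x' * y * x'⁻¹ * y⁻¹ = v (a * b) 0 := by
  have hmulc : ∀ x1 x2 y : G, x1 ∈ WW V (R i) → x2 ∈ WW V (R i) → y ∈ WW V (R i) →
      (x1 * x2) * y * (x1 * x2)⁻¹ * y⁻¹ = (x1 * y * x1⁻¹ * y⁻¹) * (x2 * y * x2⁻¹ * y⁻¹) := by
    intro x1 x2 y h1 h2 hy
    have h3 := b.QR i x1 (b.W_le_Q i h1) _ (b.WW_comm i h2 hy)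
    have h4 := b.V_comm _ (b.R_le i (b.WW_comm i h1 hy)) _ (b.R_le i (b.WW_comm i h2 hy))
    calc (x1 * x2) * y * (x1 * x2)⁻¹ * y⁻¹
        = (x1 * (x2 * y * x2⁻¹ * y⁻¹)) * y * x1⁻¹ * y⁻¹ := by group
      _ = (x2 * y * x2⁻¹ * y⁻¹) * (x1 * y * x1⁻¹ * y⁻¹) := by rw [h3]; group
      _ = _ := h4.symm
  have hR : ∀ x1 y : G, x1 ∈ WW V (R i) → y ∈ WW V (R i) → ∃ d, x1 * y * x1⁻¹ * y⁻¹ = v d 0 :=
    fun x1 y h1 hy => by
      obtain ⟨d, hd⟩ := (c.mem_R1 _).1 (b.WW_comm i h1 hy)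
      exact ⟨d, hd.symm⟩
  let T : Subgroup G :=
    { carrier := {x | x ∈ WW V (R i) ∧ ∃ x' ∈ WW V (R i), ∀ y ∈ WW V (R i), ∀ b,
        x * y * x⁻¹ * y⁻¹ = v b 0 → x' * y * x'⁻¹ * y⁻¹ = v (a * b) 0}
      one_mem' := ⟨one_mem _, 1, one_mem _, fun y _ b h => by
        have e : (1 : G) * y * 1⁻¹ * y⁻¹ = 1 := by group
        rw [e] at h ⊢
        have h2 := (c.v_one _ _ h.symm).1
        rw [h2, mul_zero, c.v_zero]⟩
      mul_mem' := by
        rintro x1 x2 ⟨h1, x1', h1', k1⟩ ⟨h2, x2', h2', k2⟩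
        refine ⟨mul_mem h1 h2, x1' * x2', mul_mem h1' h2', fun y hy b hb => ?_⟩
        obtain ⟨d1, hd1⟩ := hR x1 y h1 hy
        obtain ⟨d2, hd2⟩ := hR x2 y h2 hy
        have e1 := c.v_add d1 0 d2 0
        have e2 := c.v_add (a * d1) 0 (a * d2) 0
        rw [add_zero] at e1 e2
        rw [hmulc _ _ _ h1 h2 hy, hd1, hd2, ← e1] at hb
        rw [hmulc _ _ _ h1' h2' hy, k1 y hy d1 hd1, k2 y hy d2 hd2, ← e2, ← (c.v_inj hb).1, mul_add]
      inv_mem' := by
        rintro x1 ⟨h1, x1', h1', k1⟩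
        refine ⟨inv_mem h1, x1'⁻¹, inv_mem h1', fun y hy b hb => ?_⟩
        obtain ⟨d1, hd1⟩ := hR x1 y h1 hy
        have e1 := hmulc x1 x1⁻¹ y h1 (inv_mem h1) hy
        have e2 := hmulc x1' x1'⁻¹ y h1' (inv_mem h1') hy
        have e3 : ∀ z : G, z * z⁻¹ * y * (z * z⁻¹)⁻¹ * y⁻¹ = 1 := fun z => by group
        have e4 := c.v_add d1 0 b 0
        rw [e3, hd1, hb, ← e4, add_zero] at e1
        have e5 := (c.v_one _ _ e1.symm).1
        have e6 : a * d1 + a * b = 0 := by rw [← mul_add, e5, mul_zero]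
        have e7 := c.v_add (a * d1) 0 (a * b) 0
        rw [e6, add_zero, c.v_zero] at e7
        rw [e3, k1 y hy d1 hd1, e7] at e2
        exact (mul_left_cancel e2).symm }
  have hT : WW V (R i) ≤ T := by
    refine iSup_le fun g => ?_
    rintro _ ⟨z, hz, rfl⟩
    change (g : G) * z * (g : G)⁻¹ ∈ T
    obtain ⟨σ, hσ⟩ := exists_sigma c b hL g.2
    obtain ⟨b0, e0, rfl⟩ := (c.mem_V z).1 hz
    refine ⟨conj_mem_W c b g.2 hz, (g : G) * v b0 (σ.symm a * e0) * (g : G)⁻¹,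
      conj_mem_W c b g.2 (c.v_mem _ _), fun y hy d hd => ?_⟩
    have hy' : (g : G)⁻¹ * y * g ∈ WW V (R i) :=
      conj_inv_mem_of_normalizer (normalizer_le_WW V (R i) g.2) hy
    obtain ⟨p, hp⟩ := c.W1_act _ hy'
    have key : ∀ b e, (g : G) * v b e * (g : G)⁻¹ * y * ((g : G) * v b e * (g : G)⁻¹)⁻¹ * y⁻¹ =
        g * v (p * e) 0 * (g : G)⁻¹ := by
      intro b1 e
      have h1 := comm_param c hp b1 e
      have h2 : (v (p * e) 0)⁻¹ = v (p * e) 0 := b.inv_eq (c.v_mem _ _)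
      rw [← h2, ← h1]; group
    rw [key] at hd ⊢
    have h3 := hσ (σ.symm a) _ _ hd
    rw [σ.apply_symm_apply] at h3
    rw [← h3]
    congr 3
    ring
  exact (hT hx).2

end

end Cfsg.Agent.Omega.FSix
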