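import Mathlib

/-!
THEOREM TIR (bb OMEGA #13229, helper522), the abstract part: steps (2), (3) for `q ≥ 8` and the
end of step (5) for `q = 4`.

`R` is a subgroup of order `q` of `G`, `Q` (= `O_2(N_G(R))`) a subgroup with `R` central in `Q`,
`[Q,Q] ≤ R`, `[x,Q] = R` for `x ∈ Q - R`, and a field `F` of order `q` acts on `R` such that the
commutator is `F`-bilinear (`lin`) and `N_G(R)` acts semilinearly (`semi`).  `oz`: a conjugate of
`R` which meets `R` nontrivially lies in `Q`.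
-/

namespace Cfsg.Agent.Omega.FSix.Tir

variable {G : Type*} [Group G]

/-- the conjugate subgroup `g H g⁻¹` -/
def cj (g : G) (H : Subgroup G) : Subgroup G := H.map (MulAut.conj g).toMonoidHom

theorem mem_cj {g x : G} {H : Subgroup G} : x ∈ cj g H ↔ g⁻¹ * x * g ∈ H := by
  unfold cj
  rw [Subgroup.mem_map]
  constructor
  · rintro ⟨y, hy, rfl⟩
    simpa [MulAut.conj_apply, mul_assoc] using hy
  · intro h
    exact ⟨_, h, by simp [MulAut.conj_apply, mul_assoc]⟩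

theorem cj_mem {g x : G} {H : Subgroup G} (h : x ∈ H) : g * x * g⁻¹ ∈ cj g H := by
  rw [mem_cj]; simpa [mul_assoc] using h

theorem card_cj (g : G) (H : Subgroup G) : Nat.card (cj g H) = Nat.card H :=
  (Nat.card_congr (Subgroup.equivMapOfInjective H _ (MulAut.conj g).injective).toEquiv).symm

/-- two involutive automorphisms of a finite field of characteristic two are equal -/
theorem field_invol {F : Type*} [Field F] [Finite F] (h2 : (2 : F) = 0) (σ τ : F ≃+* F)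
    (hσ : ∀ a, σ (σ a) = a) (hτ : ∀ a, τ (τ a) = a) (hσ1 : ∃ a, σ a ≠ a) (hτ1 : ∃ a, τ a ≠ a) :
    ∀ a, σ a = τ a := by
  haveI : CharP F 2 := CharTwo.of_one_ne_zero_of_two_eq_zero one_ne_zero h2
  letI : Algebra (ZMod 2) F := ZMod.algebra F 2
  have key : ∀ ρ : F ≃+* F, ∃ ρ' : F ≃ₐ[ZMod 2] F, ∀ a, ρ' a = ρ a := by
    intro ρ
    refine ⟨AlgEquiv.ofRingEquiv (f := ρ) ?_, fun a => rfl⟩
    intro x
    exact RingHom.congr_fun (Subsingleton.elim (ρ.toRingHom.comp (algebraMap (ZMod 2) F))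
      (algebraMap (ZMod 2) F)) x
  obtain ⟨s, hs⟩ := key σ
  obtain ⟨t, ht⟩ := key τ
  classical
  haveI : Fintype (F ≃ₐ[ZMod 2] F) := Fintype.ofFinite _
  by_contra hne
  push Not at hne
  obtain ⟨a, ha⟩ := hne
  have hst : s ≠ t := by
    rintro rfl
    exact ha (by rw [← hs, ← ht])
  have hs1 : s ≠ 1 := by
    rintro rfl
    obtain ⟨b, hb⟩ := hσ1
    exact hb (by rw [← hs]; rfl)
  have ht1 : t ≠ 1 := by
    rintro rfl
    obtain ⟨b, hb⟩ := hτ1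
    exact hb (by rw [← ht]; rfl)
  have hs2 : s ^ 2 = 1 := by
    ext b
    simp [pow_two, hs, hσ]
  have ht2 : t ^ 2 = 1 := by
    ext b
    simp [pow_two, ht, hτ]
  have hle := IsCyclic.card_pow_eq_one_le (α := F ≃ₐ[ZMod 2] F) (n := 2) (by norm_num)
  have hsub : ({1, s, t} : Finset (F ≃ₐ[ZMod 2] F)) ⊆ Finset.univ.filter (fun a => a ^ 2 = 1) := by
    intro b hb
    simp only [Finset.mem_insert, Finset.mem_singleton] at hb
    simp only [Finset.mem_filter, Finset.mem_univ, true_and]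
    rcases hb with rfl | rfl | rfl
    · simp
    · exact hs2
    · exact ht2
  have h3 : ({1, s, t} : Finset (F ≃ₐ[ZMod 2] F)).card = 3 := by
    rw [Finset.card_eq_three]
    exact ⟨1, s, t, hs1.symm, ht1.symm, hst, rfl⟩
  have := Finset.card_le_card hsub
  omega

/-- the data of the theorem -/
structure Dat (R Q : Subgroup G) {F : Type*} [Field F] (sm : F → G → G) : Prop where
  RQ : R ≤ Q
  cen : ∀ x ∈ Q, ∀ r ∈ R, x * r = r * x
  comm : ∀ x ∈ Q, ∀ y ∈ Q, x * y * x⁻¹ * y⁻¹ ∈ R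
  surj : ∀ x ∈ Q, x ∉ R → ∀ r ∈ R, ∃ y ∈ Q, x * y * x⁻¹ * y⁻¹ = r
  sq : ∀ r ∈ R, r * r = 1
  smR : ∀ a, ∀ r ∈ R, sm a r ∈ R
  add : ∀ a b, ∀ r ∈ R, sm (a + b) r = sm a r * sm b r
  mul : ∀ a b, ∀ r ∈ R, sm (a * b) r = sm a (sm b r)
  hom : ∀ a, ∀ r ∈ R, ∀ s ∈ R, sm a (r * s) = sm a r * sm a s
  one : ∀ r ∈ R, sm 1 r = r
  card : Nat.card F = Nat.card R
  lin : ∀ a, ∀ x ∈ Q, ∃ x' ∈ Q, ∀ y ∈ Q, x' * y * x'⁻¹ * y⁻¹ = sm a (x * y * x⁻¹ * y⁻¹)
  semi : ∀ n, (∀ r ∈ R, n * r * n⁻¹ ∈ R) →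
    ∃ σ : F ≃+* F, ∀ a, ∀ r ∈ R, n * sm a r * n⁻¹ = sm (σ a) (n * r * n⁻¹)
  NQ : ∀ n, (∀ r ∈ R, n * r * n⁻¹ ∈ R) → ∀ x ∈ Q, n * x * n⁻¹ ∈ Q
  oz : ∀ g z, z ≠ 1 → z ∈ R → g⁻¹ * z * g ∈ R → ∀ r ∈ R, g * r * g⁻¹ ∈ Q

namespace Dat

variable {R Q : Subgroup G} {F : Type*} [Field F] {sm : F → G → G}

/-- the data for a conjugate -/
theorem conj (D : Dat R Q sm) (g : G) :
    Dat (cj g R) (cj g Q) (fun a x => g * sm a (g⁻¹ * x * g) * g⁻¹) where
  RQ := by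
    intro x hx
    rw [mem_cj] at hx ⊢
    exact D.RQ hx
  cen := by
    intro x hx r hr
    rw [mem_cj] at hx hr
    have := D.cen _ hx _ hr
    have h2 : g⁻¹ * (x * r) * g = g⁻¹ * (r * x) * g := by
      calc g⁻¹ * (x * r) * g = g⁻¹ * x * g * (g⁻¹ * r * g) := by group
        _ = g⁻¹ * r * g * (g⁻¹ * x * g) := this
        _ = g⁻¹ * (r * x) * g := by group
    exact mul_left_cancel (mul_right_cancel h2)
  comm := by
    intro x hx y hy
    rw [mem_cj] at hx hy ⊢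
    have := D.comm _ hx _ hy
    have e : g⁻¹ * (x * y * x⁻¹ * y⁻¹) * g =
        g⁻¹ * x * g * (g⁻¹ * y * g) * (g⁻¹ * x * g)⁻¹ * (g⁻¹ * y * g)⁻¹ := by group
    rw [e]; exact this
  surj := by
    intro x hx hxR r hr
    rw [mem_cj] at hx hxR hr
    obtain ⟨y, hy, e⟩ := D.surj _ hx hxR _ hr
    refine ⟨g * y * g⁻¹, cj_mem hy, ?_⟩
    have e2 : x * (g * y * g⁻¹) * x⁻¹ * (g * y * g⁻¹)⁻¹ =
        g * (g⁻¹ * x * g * y * (g⁻¹ * x * g)⁻¹ * y⁻¹) * g⁻¹ := by group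
    rw [e2, e]; group
  sq := by
    intro r hr
    rw [mem_cj] at hr
    have := D.sq _ hr
    have e : r * r = g * (g⁻¹ * r * g * (g⁻¹ * r * g)) * g⁻¹ := by group
    rw [e, this]; group
  smR := by
    intro a r hr
    rw [mem_cj] at hr
    exact cj_mem (D.smR a _ hr)
  add := by
    intro a b r hr
    rw [mem_cj] at hr
    simp only [D.add a b _ hr]; group
  mul := by
    intro a b r hr
    rw [mem_cj] at hr
    simp only [D.mul a b _ hr]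
    congr 2
    congr 1
    group
  hom := by
    intro a r hr s hs
    rw [mem_cj] at hr hs
    have e : g⁻¹ * (r * s) * g = g⁻¹ * r * g * (g⁻¹ * s * g) := by group
    simp only [e, D.hom a _ hr _ hs]; group
  one := by
    intro r hr
    rw [mem_cj] at hr
    simp only [D.one _ hr]; group
  card := by rw [card_cj]; exact D.card
  lin := by
    intro a x hx
    rw [mem_cj] at hx
    obtain ⟨x', hx', h⟩ := D.lin a _ hx
    refine ⟨g * x' * g⁻¹, cj_mem hx', fun y hy => ?_⟩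
    rw [mem_cj] at hy
    have h1 := h _ hy
    have e : g * x' * g⁻¹ * y * (g * x' * g⁻¹)⁻¹ * y⁻¹ =
        g * (x' * (g⁻¹ * y * g) * x'⁻¹ * (g⁻¹ * y * g)⁻¹) * g⁻¹ := by group
    rw [e, h1]
    congr 2
    congr 1
    group
  semi := by
    intro n hn
    have hn' : ∀ r ∈ R, g⁻¹ * n * g * r * (g⁻¹ * n * g)⁻¹ ∈ R := by
      intro r hr
      have := hn _ (cj_mem hr)
      rw [mem_cj] at this
      have e : g⁻¹ * n * g * r * (g⁻¹ * n * g)⁻¹ = g⁻¹ * (n * (g * r * g⁻¹) * n⁻¹) * g := by group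
      rw [e]; exact this
    obtain ⟨σ, hσ⟩ := D.semi _ hn'
    refine ⟨σ, fun a r hr => ?_⟩
    rw [mem_cj] at hr
    have h1 := hσ a _ hr
    have e1 : n * (g * sm a (g⁻¹ * r * g) * g⁻¹) * n⁻¹ =
        g * (g⁻¹ * n * g * sm a (g⁻¹ * r * g) * (g⁻¹ * n * g)⁻¹) * g⁻¹ := by group
    have e2 : g⁻¹ * n * g * (g⁻¹ * r * g) * (g⁻¹ * n * g)⁻¹ = g⁻¹ * (n * r * n⁻¹) * g := by group
    rw [e1, h1, e2]
  NQ := by
    intro n hn x hx
    have hn' : ∀ r ∈ R, g⁻¹ * n * g * r * (g⁻¹ * n * g)⁻¹ ∈ R := by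
      intro r hr
      have := hn _ (cj_mem hr)
      rw [mem_cj] at this
      have e : g⁻¹ * n * g * r * (g⁻¹ * n * g)⁻¹ = g⁻¹ * (n * (g * r * g⁻¹) * n⁻¹) * g := by group
      rw [e]; exact this
    rw [mem_cj] at hx ⊢
    have := D.NQ _ hn' _ hx
    have e : g⁻¹ * (n * x * n⁻¹) * g = g⁻¹ * n * g * (g⁻¹ * x * g) * (g⁻¹ * n * g)⁻¹ := by group
    rw [e]; exact this
  oz := by
    intro k z hz hzR hk r hr
    rw [mem_cj] at hzR hk hr ⊢
    have h1 := D.oz (g⁻¹ * k * g) (g⁻¹ * z * g) (by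
      intro h
      apply hz
      have : z = g * (g⁻¹ * z * g) * g⁻¹ := by group
      rw [this, h]; group) hzR (by
      have e : (g⁻¹ * k * g)⁻¹ * (g⁻¹ * z * g) * (g⁻¹ * k * g) = g⁻¹ * (k⁻¹ * z * k) * g := by group
      rw [e]; exact hk) _ hr
    have e : g⁻¹ * (k * r * k⁻¹) * g = g⁻¹ * k * g * (g⁻¹ * r * g) * (g⁻¹ * k * g)⁻¹ := by group
    rw [e]; exact h1

theorem sm_one (D : Dat R Q sm) (a : F) : sm a 1 = 1 := by
  have := D.hom a 1 R.one_mem 1 R.one_mem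
  rw [one_mul] at this
  exact (left_eq_mul.mp this)

theorem zero_sm (D : Dat R Q sm) {r : G} (hr : r ∈ R) : sm 0 r = 1 := by
  have := D.add 0 0 r hr
  rw [add_zero] at this
  exact (left_eq_mul.mp this)

theorem eq_one_of_sm (D : Dat R Q sm) {a : F} (ha : a ≠ 0) {r : G} (hr : r ∈ R)
    (h : sm a r = 1) : r = 1 := by
  have := D.mul a⁻¹ a r hr
  rw [inv_mul_cancel₀ ha, D.one r hr, h, D.sm_one] at this
  exact this

theorem inv_mem_eq (D : Dat R Q sm) {r : G} (hr : r ∈ R) : r⁻¹ = r :=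
  inv_eq_of_mul_eq_one_left (D.sq r hr)

theorem sm_inj (D : Dat R Q sm) {a b : F} {r : G} (hr : r ∈ R) (h1 : r ≠ 1)
    (h : sm a r = sm b r) : a = b := by
  by_contra hab
  have hs := D.add (a - b) b r hr
  rw [sub_add_cancel, h] at hs
  have : sm (a - b) r = 1 := (right_eq_mul.mp hs)
  exact h1 (D.eq_one_of_sm (sub_ne_zero.mpr hab) hr this)

theorem two_eq_zero (D : Dat R Q sm) {r : G} (hr : r ∈ R) (h1 : r ≠ 1) : (2 : F) = 0 := by
  by_contra h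
  have hs := D.add 1 1 r hr
  rw [D.one r hr, D.sq r hr, one_add_one_eq_two] at hs
  exact h1 (D.eq_one_of_sm h hr hs)

theorem finF [Finite G] (D : Dat R Q sm) : Finite F := by
  have h : 0 < Nat.card F := by rw [D.card]; exact Nat.card_pos
  exact (Nat.card_pos_iff.mp h).2

theorem trans [Finite G] (D : Dat R Q sm) {r s : G} (hr : r ∈ R) (h1 : r ≠ 1) (hs : s ∈ R) :
    ∃ a, sm a r = s := by
  haveI := D.finF
  let f : F → R := fun a => ⟨sm a r, D.smR a r hr⟩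
  have hf : Function.Injective f := by
    intro a b hab
    exact D.sm_inj hr h1 (congrArg Subtype.val hab)
  have hb : Function.Bijective f := by
    rw [Nat.bijective_iff_injective_and_card]
    exact ⟨hf, D.card⟩
  obtain ⟨a, ha⟩ := hb.2 ⟨s, hs⟩
  exact ⟨a, congrArg Subtype.val ha⟩

/-- a linear element with trivial square is trivial -/
theorem cent_of_lin [Finite G] (D : Dat R Q sm) {n : G} (hn : ∀ r ∈ R, n * r * n⁻¹ ∈ R)
    (hl : ∀ a, ∀ r ∈ R, n * sm a r * n⁻¹ = sm a (n * r * n⁻¹))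
    (h2 : ∀ r ∈ R, n * (n * r * n⁻¹) * n⁻¹ = r) : ∀ r ∈ R, n * r * n⁻¹ = r := by
  by_cases hR : ∀ r ∈ R, r = 1
  · intro r hr
    rw [hR r hr]; group
  push Not at hR
  obtain ⟨r1, hr1, h1⟩ := hR
  obtain ⟨μ, hμ⟩ := D.trans hr1 h1 (hn r1 hr1)
  have h3 : sm (μ * μ) r1 = r1 := by
    rw [D.mul μ μ r1 hr1, hμ, ← hl μ r1 hr1, hμ]
    exact h2 r1 hr1
  have h4 : μ * μ = 1 := D.sm_inj hr1 h1 (by rw [h3, D.one r1 hr1])
  have h20 := D.two_eq_zero hr1 h1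
  have h5 : (μ - 1) * (μ - 1) = 0 := by
    have : (μ - 1) * (μ - 1) = μ * μ - 2 * μ + 1 := by ring
    rw [this, h4, h20]
    have : (1 : F) - 0 * μ + 1 = 2 := by ring
    rw [this, h20]
  have h6 : μ = 1 := by
    have := mul_self_eq_zero.mp h5
    exact sub_eq_zero.mp this
  intro r hr
  obtain ⟨a, ha⟩ := D.trans hr1 h1 hr
  rw [← ha, hl a r1 hr1, ← hμ, h6, D.one r1 hr1]

/-- LEMMA A: two elements which act as commuting involutions on `R` act in the same way -/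
theorem same_act [Finite G] (D : Dat R Q sm) {x y : G}
    (hx : ∀ r ∈ R, x * r * x⁻¹ ∈ R) (hy : ∀ r ∈ R, y * r * y⁻¹ ∈ R)
    (hx2 : ∀ r ∈ R, x * (x * r * x⁻¹) * x⁻¹ = r) (hy2 : ∀ r ∈ R, y * (y * r * y⁻¹) * y⁻¹ = r)
    (hxy2 : ∀ r ∈ R, x * y * (x * y * r * (x * y)⁻¹) * (x * y)⁻¹ = r)
    (hx1 : ∃ r ∈ R, x * r * x⁻¹ ≠ r) (hy1 : ∃ r ∈ R, y * r * y⁻¹ ≠ r) :
    ∀ r ∈ R, x * y * r * (x * y)⁻¹ = r := by
  haveI := D.finF
  obtain ⟨σ, hσ⟩ := D.semi x hx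
  obtain ⟨τ, hτ⟩ := D.semi y hy
  obtain ⟨r1, hr1, hxr1⟩ := hx1
  have h1 : r1 ≠ 1 := by
    rintro rfl
    exact hxr1 (by group)
  have h20 := D.two_eq_zero hr1 h1
  -- generic facts
  have invol : ∀ (n : G) (ρ : F ≃+* F), (∀ r ∈ R, n * r * n⁻¹ ∈ R) →
      (∀ a, ∀ r ∈ R, n * sm a r * n⁻¹ = sm (ρ a) (n * r * n⁻¹)) →
      (∀ r ∈ R, n * (n * r * n⁻¹) * n⁻¹ = r) → ∀ a, ρ (ρ a) = a := by
    intro n ρ hn hl h2 a
    have e1 := h2 (sm a r1) (D.smR a r1 hr1)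
    rw [hl a r1 hr1, hl (ρ a) _ (hn r1 hr1), h2 r1 hr1] at e1
    exact D.sm_inj hr1 h1 e1
  have hσ2 := invol x σ hx hσ hx2
  have hτ2 := invol y τ hy hτ hy2
  have hσ1 : ∃ a, σ a ≠ a := by
    by_contra hcon
    push Not at hcon
    exact hxr1 (D.cent_of_lin hx (fun a r hr => by rw [hσ a r hr, hcon a]) hx2 r1 hr1)
  have hτ1 : ∃ a, τ a ≠ a := by
    by_contra hcon
    push Not at hcon
    obtain ⟨r2, hr2, hyr2⟩ := hy1
    exact hyr2 (D.cent_of_lin hy (fun a r hr => by rw [hτ a r hr, hcon a]) hy2 r2 hr2)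
  have hst := field_invol h20 σ τ hσ2 hτ2 hσ1 hτ1
  have hmem : ∀ r ∈ R, x * y * r * (x * y)⁻¹ ∈ R := by
    intro r hr
    have e : x * y * r * (x * y)⁻¹ = x * (y * r * y⁻¹) * x⁻¹ := by group
    rw [e]; exact hx _ (hy r hr)
  refine D.cent_of_lin hmem ?_ hxy2
  intro a r hr
  have e : ∀ s, x * y * s * (x * y)⁻¹ = x * (y * s * y⁻¹) * x⁻¹ := by intro s; group
  rw [e, e, hτ a r hr, hσ (τ a) _ (hy r hr), hst (τ a), hτ2]

end Dat

end Cfsg.Agent.Omega.FSix.Tir
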